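import Cfsg.Agent.Lib.PSU3Index.Orbit
import Cfsg.Agent.Lib.Classical.UnitaryStd

/-!
A subgroup of small index is transitive; its stabiliser splits into a unipotent and a toral part.
-/

set_option autoImplicit false
set_option linter.unusedSectionVars false
set_option linter.style.haveILetI false

namespace Cfsg.Agent.PSU3Index

open Matrix Hermitian
open Cfsg.Agent.SU3Root (Uni Frame rootE uu ww dd)

variable {F : Type*} [Field F] [Fintype F] {q : ℕ}

local notation "M3" => Matrix (Fin 3) (Fin 3) F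
set_option quotPrecheck false in
local notation "G" => ↥(Cfsg.SU 3 F q)

variable (C : Ctx F q)

include C in
theorem exists_prime_pow : ∃ p a, p.Prime ∧ 0 < a ∧ q = p ^ a ∧ CharP F p := by
  obtain ⟨p, hp⟩ := CharP.exists F
  haveI := hp
  obtain ⟨n, hpp, hn⟩ := FiniteField.card F p
  rw [← Nat.card_eq_fintype_card, card_F C] at hn
  obtain ⟨a, -, hqa⟩ := (Nat.dvd_prime_pow hpp).1 (hn ▸ dvd_pow_self q two_ne_zero)
  refine ⟨p, a, hpp, Nat.pos_of_ne_zero ?_, hqa, hp⟩
  rintro rfl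
  rw [pow_zero] at hqa
  have := q_two_le C
  omega

theorem isPGroup_rad {p a : ℕ} [Fact p.Prime] (hqa : q = p ^ a) : IsPGroup p (rad C) :=
  IsPGroup.of_card (n := a * 3) (by rw [card_rad C, hqa, ← pow_mul])

include C in
theorem coprime_q : Nat.Coprime (q ^ 2 - 1) q := by
  rcases Nat.eq_zero_or_pos q with rfl | hq
  · simp at *
    exact absurd (q_two_le C) (by norm_num)
  · have h1 : 1 ≤ q ^ 2 := Nat.one_le_pow _ _ hq
    refine Nat.coprime_of_dvd' fun k _ h1' h2 => ?_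
    have h3 : k ∣ q ^ 2 := dvd_pow h2 two_ne_zero
    simpa [Nat.sub_sub_self h1] using Nat.dvd_sub h3 h1'

/-- A subgroup with non-trivial unipotent elements at every point is transitive. -/
theorem orbit_eq_of_rad {H : Subgroup G} (hall : ∀ g : G, ∃ u ∈ H, u ≠ 1 ∧ g⁻¹ * u * g ∈ rad C) :
    ∀ x : Pt C, x ∈ MulAction.orbit H (base C) := by
  classical
  obtain ⟨p, a, hp, ha, hqa, -⟩ := exists_prime_pow C
  haveI := Fact.mk hp
  intro y
  by_contra hy
  obtain ⟨g, hg⟩ := exists_smul_base C y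
  have key : ∀ x : Pt C, ∀ {u : G}, u ∈ H → u ≠ 1 → ∀ {t : G}, t⁻¹ * u * t ∈ rad C →
      (t • base C ∈ MulAction.orbit H x → Nat.card (MulAction.orbit H x) ≡ 1 [MOD p]) ∧
      (t • base C ∉ MulAction.orbit H x → Nat.card (MulAction.orbit H x) ≡ 0 [MOD p]) := by
    intro x u huH hu1 t ht
    have hP : IsPGroup p (Subgroup.zpowers (⟨u, huH⟩ : H)) := by
      rintro ⟨_, j, rfl⟩
      obtain ⟨k, hk⟩ := isPGroup_rad C hqa ⟨_, ht⟩
      refine ⟨k, Subtype.ext (Subtype.ext ?_)⟩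
      have hk' : (t⁻¹ * u * t⁻¹⁻¹) ^ (p ^ k) = 1 := by
        rw [inv_inv]
        exact congrArg Subtype.val hk
      rw [conj_pow, conj_eq_one_iff] at hk'
      show ((u ^ j) ^ (p ^ k) : G) = 1
      rw [← zpow_natCast, ← _root_.zpow_mul, mul_comm, _root_.zpow_mul, zpow_natCast, hk', _root_.one_zpow]
    have hfix : ∀ z : Pt C, u • z = z ↔ z = t • base C := by
      intro z
      constructor
      · intro hz
        by_contra hne
        have h1 := rad_eq_one C ht (x := t⁻¹ • z) (fun e => hne (by rw [← e, smul_inv_smul])) (by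
          rw [← mul_smul, mul_inv_cancel_right, mul_smul, hz])
        rw [show t⁻¹ * u * t = t⁻¹ * u * t⁻¹⁻¹ by rw [inv_inv], conj_eq_one_iff] at h1
        exact hu1 h1
      · rintro rfl
        rw [← mul_smul, smul_base_eq_smul]
        have := inv_mem ht.1
        rwa [_root_.mul_inv_rev, _root_.mul_inv_rev, inv_inv, ← mul_assoc, ← _root_.mul_inv_rev] at this
    have hmod := hP.card_modEq_card_fixedPoints (MulAction.orbit H x)
    have hfp : ∀ z : MulAction.orbit H x,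
        z ∈ MulAction.fixedPoints (Subgroup.zpowers (⟨u, huH⟩ : H)) (MulAction.orbit H x) ↔
          (z : Pt C) = t • base C := by
      intro z
      rw [← hfix]
      constructor
      · intro hz
        exact congrArg Subtype.val (hz ⟨_, Subgroup.mem_zpowers _⟩)
      · rintro hz ⟨w, hw⟩
        have hmem : (⟨u, huH⟩ : H) ∈ MulAction.stabilizer H (z : Pt C) := hz
        exact Subtype.ext ((Subgroup.zpowers_le.2 hmem) hw)
    constructor
    · intro hin
      haveI : Unique (MulAction.fixedPoints (Subgroup.zpowers (⟨u, huH⟩ : H)) (MulAction.orbit H x)) :=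
        ⟨⟨⟨⟨_, hin⟩, (hfp _).2 rfl⟩⟩, fun z => Subtype.ext (Subtype.ext ((hfp _).1 z.2))⟩
      exact hmod.trans (by rw [Nat.card_unique])
    · intro hout
      haveI : IsEmpty (MulAction.fixedPoints (Subgroup.zpowers (⟨u, huH⟩ : H)) (MulAction.orbit H x)) :=
        ⟨fun z => hout ((hfp _).1 z.2 ▸ z.1.2)⟩
      exact hmod.trans (by rw [Nat.card_of_isEmpty])
  obtain ⟨u, hu, hu1, hr⟩ := hall g
  obtain ⟨u', hu', hu1', hr'⟩ := hall 1
  have h1 := (key (base C) hu' hu1' hr').1 (by rw [one_smul]; exact MulAction.mem_orbit_self _)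
  have h0 := (key (base C) hu hu1 hr).2 (by rw [hg]; exact hy)
  have := h1.symm.trans h0
  rw [Nat.ModEq, Nat.zero_mod, Nat.one_mod_eq_one.2 hp.ne_one] at this
  exact one_ne_zero this

/-- A subgroup of index at most `q³` is transitive on the points. -/
theorem trans_of_index {H : Subgroup G} (hi : H.index ≤ q ^ 3) :
    ∀ g : G, ∃ h ∈ H, h⁻¹ * g ∈ borel C := by
  classical
  obtain ⟨p, a, hp, ha, hqa, -⟩ := exists_prime_pow C
  haveI := Fact.mk hp
  suffices horb : ∀ x : Pt C, x ∈ MulAction.orbit H (base C) by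
    intro g
    obtain ⟨⟨h, hh⟩, e⟩ := horb (g • base C)
    exact ⟨h, hh, (smul_base_eq_smul C).1 e⟩
  have hG := card_group C
  have hHi := H.card_mul_index
  have hq2 := q_two_le C
  by_cases hall : ∀ g : G, ∃ u ∈ H, u ≠ 1 ∧ g⁻¹ * u * g ∈ rad C
  · exact orbit_eq_of_rad C hall
  · push Not at hall
    obtain ⟨g, hg⟩ := hall
    have hmem : ∀ s : MulAction.stabilizer H (g • base C), g⁻¹ * (s : G) * g ∈ borel C := fun s => by
      have := s.2
      rw [MulAction.mem_stabilizer_iff] at this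
      rw [← smul_base_eq_iff, mul_smul, mul_smul,
        show ((s : H) : G) • g • base C = g • base C from this, inv_smul_smul]
    have hinj : Function.Injective fun s : MulAction.stabilizer H (g • base C) =>
        Units.mk0 _ (lam_ne_zero C ⟨_, hmem s⟩) := by
      intro s t hst
      have e : lam C ⟨_, hmem s⟩ = lam C ⟨_, hmem t⟩ := congrArg (Units.val : Fˣ → F) hst
      by_contra hne
      have hst' : ((t : G))⁻¹ * (s : G) ≠ 1 := fun h => hne (Subtype.ext (Subtype.ext (inv_mul_eq_one.1 h).symm))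
      refine hg _ (H.mul_mem (H.inv_mem (t : H).2) (s : H).2) hst' ?_
      have e' : lam C ((⟨_, hmem t⟩ : borel C)⁻¹ * ⟨_, hmem s⟩) = 1 := by
        rw [map_mul, e, ← map_mul, inv_mul_cancel, map_one]
      refine ⟨?_, ?_⟩
      · have := mul_mem (inv_mem (hmem t)) (hmem s)
        rwa [show (g⁻¹ * (t : G) * g)⁻¹ * (g⁻¹ * (s : G) * g) = g⁻¹ * ((t : G)⁻¹ * (s : G)) * g by group] at this
      · rw [show g⁻¹ * ((t : G)⁻¹ * (s : G)) * g = (g⁻¹ * (t : G) * g)⁻¹ * (g⁻¹ * (s : G) * g) by group]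
        exact e'
    have hcard := Nat.card_le_card_of_injective _ hinj
    rw [Nat.card_units, card_F C] at hcard
    have hHc : (q ^ 3 + 1) * (q ^ 2 - 1) ≤ Nat.card H := by
      rw [hG] at hHi
      nlinarith [Nat.mul_le_mul_left (Nat.card H) hi, pow_pos (show 0 < q by omega) 3]
    have horbit := (MulAction.stabilizer H (g • base C)).card_mul_index
    rw [MulAction.index_stabilizer] at horbit
    have hle : (MulAction.orbit H (g • base C)).ncard ≤ q ^ 3 + 1 := by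
      rw [← card_pt C]
      exact Set.ncard_le_card _
    have hall' : MulAction.orbit H (g • base C) = Set.univ := by
      refine Set.eq_of_subset_of_ncard_le (Set.subset_univ _) ?_
      rw [Set.ncard_univ, card_pt C]
      have : (q ^ 3 + 1) * (q ^ 2 - 1) ≤ (q ^ 2 - 1) * (MulAction.orbit H (g • base C)).ncard :=
        hHc.trans (horbit ▸ Nat.mul_le_mul_right _ hcard)
      have hpos : 0 < q ^ 2 - 1 := by
        have : 2 ^ 2 ≤ q ^ 2 := Nat.pow_le_pow_left hq2 2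
        omega
      nlinarith
    intro x
    have h1 : x ∈ MulAction.orbit H (g • base C) := hall' ▸ Set.mem_univ x
    have h2 : base C ∈ MulAction.orbit H (g • base C) := hall' ▸ Set.mem_univ _
    rw [MulAction.orbit_eq_iff.2 h2]
    exact h1

/-- A subgroup with split stabiliser, transitive on the points. -/
structure Sub where
  H : Subgroup G
  center : Subgroup.center G ≤ H
  trans : ∀ g : G, ∃ h ∈ H, h⁻¹ * g ∈ borel C
  torus : ∀ g, ∀ hg : g ∈ borel C, g ∈ H → dEl C (mat C g 0 0) (lam_ne_zero C ⟨g, hg⟩) ∈ H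

theorem pow_eq_one_of_rad {x : G} (hx : x ∈ rad C) {n : ℕ} (hn : Nat.Coprime n q) (h : x ^ n = 1) : x = 1 := by
  have h2 : x ^ (q ^ 3) = 1 := by
    rw [← card_rad C]
    exact congrArg Subtype.val (pow_card_eq_one' (x := (⟨x, hx⟩ : rad C)))
  rw [← orderOf_eq_one_iff]
  exact Nat.eq_one_of_dvd_coprimes (Nat.Coprime.pow_right 3 hn) (orderOf_dvd_of_pow_eq_one h) (orderOf_dvd_of_pow_eq_one h2)

theorem dd_commute {l a b : F} (hl : l ≠ 0) (ha : mu C l * a = a) (hb : nu C l * b = b)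
    (h : b + C.σ b + a * C.σ a = 0) : Commute (uEl C a b h) (dEl C l hl) :=
  mat_inj C (by rw [mat_mul, mat_mul, mat_uEl, mat_dEl, dd_uu C hl, ha, hb])

theorem dEl_pow {l : F} (hl : l ≠ 0) (n : ℕ) : dEl C l hl ^ n = dEl C (l ^ n) (pow_ne_zero n hl) := by
  induction n with
  | zero => exact mat_inj C (by rw [pow_zero, mat_one, mat_dEl, pow_zero, dd_one])
  | succ n ih => exact mat_inj C (by rw [pow_succ, ih, mat_mul, mat_dEl, mat_dEl, mat_dEl, dd_mul, pow_succ])

theorem dEl_congr {l l' : F} {hl : l ≠ 0} {hl' : l' ≠ 0} (e : l = l') : dEl C l hl = dEl C l' hl' := by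
  subst e; rfl

theorem mu_nu (l : F) : mu C l * C.σ (mu C l) = nu C l := by
  rcases eq_or_ne l 0 with rfl | hl
  · simp [mu, nu]
  have hl' : C.σ l ≠ 0 := (map_ne_zero C.σ).2 hl
  simp only [mu, nu, map_div₀, map_mul, C.hinv]
  field_simp

theorem nu_eq_one_of_mu {l : F} (h : mu C l = 1) : nu C l = 1 := by
  rw [← mu_nu, h, map_one, one_mul]

theorem skew_of_zero {b : F} (h : b + C.σ b + 0 * C.σ (0 : F) = 0) : b ∈ skew C := by
  rw [mem_skew]; simpa using h

theorem zero_of_skew {b : F} (h : b ∈ skew C) : b + C.σ b + 0 * C.σ (0 : F) = 0 := by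
  rw [mem_skew] at h; simpa using h

/-- Elements of order prime to the characteristic are conjugate into the torus. -/
theorem conj_torus {g : G} (hg : g ∈ borel C) (hord : g ^ (q ^ 2 - 1) = 1) :
    ∃ u ∈ rad C, u * g * u⁻¹ = dEl C (mat C g 0 0) (lam_ne_zero C ⟨g, hg⟩) := by
  obtain ⟨a, b, l, hl, h, e, el'⟩ := borel_form C hg
  have hl1 : l ^ (q ^ 2 - 1) = 1 := by
    rw [← card_F C, Nat.card_eq_fintype_card]
    exact FiniteField.pow_card_sub_one_eq_one l hl
  -- first the part modulo the centre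
  have step1 : ∃ u ∈ rad C, ∃ b', ∃ h' : b' + C.σ b' + 0 * C.σ (0 : F) = 0,
      u * g * u⁻¹ = uEl C 0 b' h' * dEl C l hl := by
    by_cases hm : mu C l = 1
    · refine ⟨1, one_mem _, 0, by simp, ?_⟩
      have hc := dd_commute C hl (a := a) (b := b) (by rw [hm, one_mul]) (by rw [nu_eq_one_of_mu C hm, one_mul]) h
      have h1 : uEl C a b h ^ (q ^ 2 - 1) = 1 := by
        have := hord
        rw [e, hc.mul_pow, dEl_pow] at this
        have e2 : dEl C (l ^ (q ^ 2 - 1)) (pow_ne_zero _ hl) = 1 := mat_inj C (by rw [mat_dEl, hl1, dd_one, mat_one])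
        rwa [e2, mul_one] at this
      have h2 := pow_eq_one_of_rad C (uEl_mem_rad C h) (coprime_q C) h1
      have h3 : uEl C 0 0 (show (0 : F) + C.σ 0 + 0 * C.σ (0 : F) = 0 by simp) = 1 :=
        mat_inj C (by rw [mat_uEl, mat_one]; ext i j; fin_cases i <;> fin_cases j <;> simp [uu])
      rw [h3, e, h2, one_mul, one_mul, inv_one, mul_one]
    · have hm' : 1 - mu C l ≠ 0 := sub_ne_zero.2 (Ne.symm hm)
      obtain ⟨c, hc⟩ : ∃ c, c = -a / (1 - mu C l) := ⟨_, rfl⟩
      obtain ⟨d, hd⟩ := exists_trace C.hne C.hinv (x := -(c * C.σ c)) (by rw [map_neg, map_mul, C.hinv, mul_comm])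
      have hcd : d + C.σ d + c * C.σ c = 0 := by linear_combination hd
      refine ⟨uEl C c d hcd, uEl_mem_rad C hcd, ?_⟩
      obtain ⟨a', b', l', hl', h', e', el''⟩ := borel_form C
        (mul_mem (mul_mem (uEl_mem C hcd) hg) (inv_mem (uEl_mem C hcd)))
      have hM : uEl C c d hcd * g = uEl C a' b' h' * dEl C l' hl' * uEl C c d hcd := by
        rw [← e', inv_mul_cancel_right]
      have hMm := congrArg (mat C) hM
      rw [e, ← mul_assoc] at hMm
      rw [mat_mul, mat_mul, mat_mul, mat_mul, mat_uEl, mat_uEl, mat_uEl, mat_dEl, mat_dEl, uu_mul,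
        Matrix.mul_assoc (uu C.σ a' b'), dd_uu C hl', ← Matrix.mul_assoc, uu_mul, uu_dd_apply, uu_dd_apply] at hMm
      have e00 := congrFun (congrFun hMm 0) 0
      have e12 := congrFun (congrFun hMm 1) 2
      simp at e00 e12
      subst e00
      have hσl : C.σ l ≠ 0 := (map_ne_zero C.σ).2 hl
      simp [hσl] at e12
      have ha' : a' = 0 := by
        rw [hc] at e12
        field_simp at e12
        refine mul_right_cancel₀ hm' (?_ : a' * (1 - mu C l) = 0 * (1 - mu C l))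
        linear_combination -e12
      subst ha'
      exact ⟨b', h', e'⟩
  obtain ⟨u, hu, b', h', e'⟩ := step1
  have hl' : mat C g 0 0 = l := el'.symm
  by_cases hn : nu C l = 1
  · refine ⟨u, hu, ?_⟩
    have hc := dd_commute C hl (a := 0) (b := b') (by rw [mul_zero]) (by rw [hn, one_mul]) h'
    have h1 : uEl C 0 b' h' ^ (q ^ 2 - 1) = 1 := by
      have : (u * g * u⁻¹) ^ (q ^ 2 - 1) = 1 := by rw [conj_pow, hord, mul_one, mul_inv_cancel]
      rw [e', hc.mul_pow, dEl_pow] at this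
      have e2 : dEl C (l ^ (q ^ 2 - 1)) (pow_ne_zero _ hl) = 1 := mat_inj C (by rw [mat_dEl, hl1, dd_one, mat_one])
      rwa [e2, mul_one] at this
    have h2 := pow_eq_one_of_rad C (uEl_mem_rad C h') (coprime_q C) h1
    rw [e', h2, one_mul]
    exact (dEl_congr C hl').symm
  · have hn' : 1 - nu C l ≠ 0 := sub_ne_zero.2 (Ne.symm hn)
    obtain ⟨d, hd⟩ : ∃ d, d = -b' / (1 - nu C l) := ⟨_, rfl⟩
    have hd0 : d + C.σ d + 0 * C.σ (0 : F) = 0 := by
      have hb' := skew_of_zero C h'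
      refine zero_of_skew C ?_
      rw [hd, show -b' / (1 - nu C l) = (1 - nu C l)⁻¹ * -b' by ring]
      refine mul_mem_skew C ?_ ((skew C).neg_mem hb')
      rw [map_inv₀, map_sub, map_one]
      congr 2
      simp only [nu, map_mul, C.hinv, mul_comm]
    refine ⟨uEl C 0 d hd0 * u, mul_mem (uEl_mem_rad C hd0) hu, ?_⟩
    rw [show uEl C 0 d hd0 * u * g * (uEl C 0 d hd0 * u)⁻¹ = uEl C 0 d hd0 * (u * g * u⁻¹) * (uEl C 0 d hd0)⁻¹ by
      group, e', mul_inv_eq_iff_eq_mul]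
    refine mat_inj C ?_
    have hl2 : dEl C (mat C g 0 0) (lam_ne_zero C ⟨g, hg⟩) = dEl C l hl := dEl_congr C hl'
    rw [hl2, mat_mul, mat_mul, mat_mul, mat_uEl, mat_uEl, mat_dEl, dd_uu C hl, ← Matrix.mul_assoc, uu_mul,
      mul_zero, sub_zero, add_zero, mul_zero]
    congr 2
    rw [hd]
    field_simp
    ring

/-- A subgroup of small index gives a split one of the same index. -/
theorem exists_sub {H : Subgroup G} (hZ : Subgroup.center G ≤ H) (hi : H.index ≤ q ^ 3) :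
    ∃ S : Sub C, S.H.index = H.index := by
  classical
  have htr := trans_of_index C hi
  -- the image of the stabiliser in the multiplicative group is cyclic
  let f : ↥(H ⊓ borel C) →* Fˣ :=
    { toFun := fun g => Units.mk0 (mat C (g : G) 0 0) (lam_ne_zero C ⟨_, g.2.2⟩)
      map_one' := Units.ext (map_one (lam C))
      map_mul' := fun g g' => Units.ext (show lam C ⟨_, (g * g').2.2⟩ = lam C ⟨_, g.2.2⟩ * lam C ⟨_, g'.2.2⟩ by
        rw [← map_mul]; rfl) }
  obtain ⟨⟨_, g₀, rfl⟩, hgen⟩ := IsCyclic.exists_generator (α := f.range)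
  obtain ⟨k, hkd⟩ : ∃ k, k = (g₀ : G) ^ (q ^ 3) := ⟨_, rfl⟩
  have hkH : k ∈ H := hkd ▸ H.pow_mem g₀.2.1 _
  have hkB : k ∈ borel C := hkd ▸ (borel C).pow_mem g₀.2.2 _
  have hn : ∀ x : G, ∀ hx : x ∈ borel C, (x ^ (q ^ 2 - 1)) ∈ rad C := by
    intro x hx
    refine ⟨(borel C).pow_mem hx _, ?_⟩
    show lam C ((⟨x, hx⟩ : borel C) ^ (q ^ 2 - 1)) = 1
    rw [map_pow, ← card_F C, Nat.card_eq_fintype_card]
    exact FiniteField.pow_card_sub_one_eq_one _ (lam_ne_zero C ⟨x, hx⟩)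
  have hk1 : k ^ (q ^ 2 - 1) = 1 := by
    rw [hkd, ← pow_mul, mul_comm, pow_mul, ← card_rad C]
    exact congrArg Subtype.val (pow_card_eq_one' (x := (⟨_, hn _ g₀.2.2⟩ : rad C)))
  obtain ⟨u, hu, hconj⟩ := conj_torus C hkB hk1
  refine ⟨⟨H.map (MulAut.conj u).toMonoidHom, ?_, ?_, ?_⟩, ?_⟩
  · intro z hz
    refine ⟨z, hZ hz, ?_⟩
    show u * z * u⁻¹ = z
    rw [Subgroup.mem_center_iff.1 hz u, mul_inv_cancel_right]
  · intro g
    obtain ⟨h, hh, hhb⟩ := htr (u⁻¹ * g * u)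
    refine ⟨u * h * u⁻¹, ⟨h, hh, rfl⟩, ?_⟩
    have := mul_mem (mul_mem hu.1 hhb) (inv_mem hu.1)
    rwa [show u * (h⁻¹ * (u⁻¹ * g * u)) * u⁻¹ = (u * h * u⁻¹)⁻¹ * g by group] at this
  · intro g hg hgH
    obtain ⟨x, hx, rfl⟩ := hgH
    have hxB : x ∈ borel C := by
      have := mul_mem (mul_mem (inv_mem hu.1) hg) hu.1
      rwa [show u⁻¹ * ((MulAut.conj u).toMonoidHom x) * u = x by simp [MulAut.conj_apply]; group] at this
    have hu0 : lam C ⟨u, hu.1⟩ = 1 := hu.2
    have hlam : mat C ((MulAut.conj u).toMonoidHom x) 0 0 = mat C x 0 0 := by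
      have h3 := congrArg (lam C) (show (⟨_, hg⟩ : borel C) * ⟨u, hu.1⟩ = ⟨u, hu.1⟩ * ⟨x, hxB⟩ from
        Subtype.ext (by simp [MulAut.conj_apply]))
      rw [map_mul, map_mul, hu0, mul_one, one_mul] at h3
      exact h3
    obtain ⟨m, hm⟩ := hgen ⟨f ⟨x, hx, hxB⟩, ⟨_, rfl⟩⟩
    have hm' : (f g₀) ^ m = f ⟨x, hx, hxB⟩ := congrArg (fun z : f.range => (z : Fˣ)) hm
    -- a power of the conjugate generator
    have hcop := coprime_q C
    obtain ⟨j, hj⟩ : ∃ j : ℤ, (f g₀) ^ ((q ^ 3 : ℕ) * j : ℤ) = f g₀ := by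
      have hc3 : IsCoprime ((q ^ 3 : ℕ) : ℤ) ((q ^ 2 - 1 : ℕ) : ℤ) :=
        Nat.isCoprime_iff_coprime.2 ((Nat.Coprime.pow_right 3 hcop).symm)
      obtain ⟨s, t, hst⟩ := hc3
      refine ⟨s, ?_⟩
      have hone : (f g₀) ^ ((q ^ 2 - 1 : ℕ) : ℤ) = 1 := by
        rw [zpow_natCast, ← card_F C, ← Nat.card_units F]
        exact pow_card_eq_one'
      rw [show ((q ^ 3 : ℕ) : ℤ) * s = 1 - ((q ^ 2 - 1 : ℕ) : ℤ) * t by linear_combination hst,
        _root_.zpow_sub, _root_.zpow_mul, hone, _root_.one_zpow, inv_one, mul_one, zpow_one]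
    refine ⟨k ^ (j * m), H.zpow_mem hkH _, ?_⟩
    show u * k ^ (j * m) * u⁻¹ = _
    have hlk : (Units.mk0 _ (lam_ne_zero C ⟨k, hkB⟩) : Fˣ) = (f g₀) ^ (q ^ 3) := by
      refine Units.ext ?_
      show lam C ⟨k, hkB⟩ = _
      rw [show (⟨k, hkB⟩ : borel C) = ⟨_, g₀.2.2⟩ ^ (q ^ 3) from Subtype.ext hkd, map_pow]
      rfl
    rw [← conj_zpow, hconj]
    let T : Fˣ →* G :=
      { toFun := fun l => dEl C l l.ne_zero
        map_one' := mat_inj C (by rw [mat_dEl, Units.val_one, dd_one, mat_one])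
        map_mul' := fun a b => mat_inj C (by rw [mat_mul, mat_dEl, mat_dEl, mat_dEl, dd_mul, Units.val_mul]) }
    show T (Units.mk0 _ (lam_ne_zero C ⟨k, hkB⟩)) ^ (j * m) = _
    rw [← map_zpow, hlk, ← zpow_natCast, ← _root_.zpow_mul, ← mul_assoc, _root_.zpow_mul, hj, hm']
    exact dEl_congr C hlam.symm
  · exact Subgroup.index_map_of_bijective (MulAut.conj u).bijective H

namespace Sub

variable {C} (S : Sub C)

/-- The image of the unipotent part. -/
def W : AddSubgroup F where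
  carrier := {a | ∃ b, ∃ h : b + C.σ b + a * C.σ a = 0, uEl C a b h ∈ S.H}
  zero_mem' := ⟨0, by simp, by
    convert S.H.one_mem
    exact mat_inj C (by rw [mat_uEl, mat_one]; ext i j; fin_cases i <;> fin_cases j <;> simp [uu])⟩
  add_mem' := by
    rintro a a' ⟨b, h, hm⟩ ⟨b', h', hm'⟩
    refine ⟨b + b' - C.σ a * a', ?_, ?_⟩
    · simp only [map_add, map_sub, map_mul, C.hinv]
      linear_combination h + h'
    · convert S.H.mul_mem hm hm'
      exact mat_inj C (by rw [mat_uEl, mat_mul, mat_uEl, mat_uEl, uu_mul])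
  neg_mem' := by
    rintro a ⟨b, h, hm⟩
    refine ⟨C.σ b, ?_, ?_⟩
    · rw [C.hinv, map_neg]
      linear_combination h
    · convert S.H.inv_mem hm
      refine eq_inv_of_mul_eq_one_left (mat_inj C ?_)
      rw [mat_mul, mat_uEl, mat_uEl, uu_mul, mat_one]
      ext i j
      fin_cases i <;> fin_cases j <;> simp [uu]
      linear_combination h

/-- The central part. -/
def Z0 : AddSubgroup F where
  carrier := {b | ∃ h : b + C.σ b + 0 * C.σ (0 : F) = 0, uEl C 0 b h ∈ S.H}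
  zero_mem' := ⟨by simp, by
    convert S.H.one_mem
    exact mat_inj C (by rw [mat_uEl, mat_one]; ext i j; fin_cases i <;> fin_cases j <;> simp [uu])⟩
  add_mem' := by
    rintro b b' ⟨h, hm⟩ ⟨h', hm'⟩
    refine ⟨by simp only [map_add]; linear_combination h + h', ?_⟩
    convert S.H.mul_mem hm hm'
    exact mat_inj C (by rw [mat_uEl, mat_mul, mat_uEl, mat_uEl, uu_mul]; simp)
  neg_mem' := by
    rintro b ⟨h, hm⟩
    refine ⟨by simp only [map_neg, map_zero, mul_zero] at h ⊢; linear_combination -h, ?_⟩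
    convert S.H.inv_mem hm
    refine eq_inv_of_mul_eq_one_left (mat_inj C ?_)
    rw [mat_mul, mat_uEl, mat_uEl, uu_mul, mat_one]
    ext i j
    fin_cases i <;> fin_cases j <;> simp [uu]

theorem Z0_le : S.Z0 ≤ skew C := fun _ ⟨h, _⟩ => skew_of_zero C h

/-- The toral part. -/
def L : Subgroup Fˣ where
  carrier := {l | dEl C l l.ne_zero ∈ S.H}
  one_mem' := by
    show dEl C ((1 : Fˣ) : F) _ ∈ S.H
    convert S.H.one_mem
    exact mat_inj C (by rw [mat_dEl, Units.val_one, dd_one, mat_one])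
  mul_mem' := fun {a b} ha hb => by
    show dEl C ((a * b : Fˣ) : F) _ ∈ S.H
    convert S.H.mul_mem ha hb
    exact mat_inj C (by rw [mat_dEl, mat_mul, mat_dEl, mat_dEl, dd_mul, Units.val_mul])
  inv_mem' := fun {a} ha => by
    show dEl C ((a⁻¹ : Fˣ) : F) _ ∈ S.H
    convert S.H.inv_mem ha
    refine eq_inv_of_mul_eq_one_left (mat_inj C ?_)
    rw [mat_mul, mat_dEl, mat_dEl, dd_mul, Units.inv_mul, dd_one, mat_one]

theorem mem_L {l : Fˣ} : l ∈ S.L ↔ dEl C l l.ne_zero ∈ S.H := Iff.rfl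

theorem mem_Z0 {b : F} : b ∈ S.Z0 ↔ ∃ h : b + C.σ b + 0 * C.σ (0 : F) = 0, uEl C 0 b h ∈ S.H := Iff.rfl

theorem mem_W {a : F} : a ∈ S.W ↔ ∃ b, ∃ h : b + C.σ b + a * C.σ a = 0, uEl C a b h ∈ S.H := Iff.rfl

/-- The decomposition of the elements of the stabiliser. -/
theorem split {g : G} (hg : g ∈ borel C) (hgH : g ∈ S.H) :
    ∃ (a b : F) (l : Fˣ) (h : b + C.σ b + a * C.σ a = 0),
      g = uEl C a b h * dEl C l l.ne_zero ∧ uEl C a b h ∈ S.H ∧ l ∈ S.L := by
  obtain ⟨a, b, l, hl, h, e, el'⟩ := borel_form C hg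
  have hd := S.torus g hg hgH
  have hde : dEl C (mat C g 0 0) (lam_ne_zero C ⟨g, hg⟩) = dEl C l hl := dEl_congr C el'.symm
  rw [hde] at hd
  refine ⟨a, b, Units.mk0 l hl, h, e, ?_, hd⟩
  have := S.H.mul_mem hgH (S.H.inv_mem hd)
  rwa [e, mul_inv_cancel_right] at this

theorem mu_mul_mem {a : F} {l : Fˣ} (hl : l ∈ S.L) (ha : a ∈ S.W) : mu C l * a ∈ S.W := by
  obtain ⟨b, h, hm⟩ := ha
  refine ⟨nu C l * b, ?_, ?_⟩
  · rw [map_mul, map_mul, mu, nu, map_mul, map_div₀, map_mul, C.hinv]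
    field_simp
    linear_combination ((l : F) * C.σ l) * h
  · convert S.H.mul_mem (S.H.mul_mem hl hm) (S.H.inv_mem hl)
    rw [eq_mul_inv_iff_mul_eq]
    exact mat_inj C (by rw [mat_mul, mat_mul, mat_uEl, mat_uEl, mat_dEl, dd_uu C l.ne_zero])

theorem nu_mul_mem {b : F} {l : Fˣ} (hl : l ∈ S.L) (hb : b ∈ S.Z0) : nu C l * b ∈ S.Z0 := by
  obtain ⟨h, hm⟩ := hb
  refine ⟨zero_of_skew C (mul_mem_skew C (by rw [nu, map_mul, C.hinv, mul_comm]) (skew_of_zero C h)), ?_⟩
  convert S.H.mul_mem (S.H.mul_mem hl hm) (S.H.inv_mem hl)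
  rw [eq_mul_inv_iff_mul_eq]
  exact mat_inj C (by rw [mat_mul, mat_mul, mat_uEl, mat_uEl, mat_dEl, dd_uu C l.ne_zero, mul_zero])

theorem comm_mem {a c : F} (ha : a ∈ S.W) (hc : c ∈ S.W) : C.σ c * a - C.σ a * c ∈ S.Z0 := by
  obtain ⟨b, h, hm⟩ := ha
  obtain ⟨d, h', hm'⟩ := hc
  refine ⟨by simp only [map_sub, map_mul, C.hinv, map_zero, mul_zero]; ring, ?_⟩
  convert S.H.mul_mem (S.H.mul_mem hm hm') (S.H.inv_mem (S.H.mul_mem hm' hm))
  rw [eq_mul_inv_iff_mul_eq]
  refine mat_inj C ?_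
  rw [mat_mul, mat_mul, mat_mul, mat_uEl, mat_uEl, mat_uEl, uu_mul, uu_mul, uu_mul]
  congr 1
  · ring
  · simp; ring

theorem norm_mem (h2 : (2 : F) = 0) {a : F} (ha : a ∈ S.W) : a * C.σ a ∈ S.Z0 := by
  obtain ⟨b, h, hm⟩ := ha
  refine ⟨zero_of_skew C ((fixed_iff_skew C h2).1 (by rw [map_mul, C.hinv, mul_comm])), ?_⟩
  convert S.H.mul_mem hm hm
  refine mat_inj C ?_
  rw [mat_mul, mat_uEl, mat_uEl, uu_mul]
  congr 1
  · linear_combination (-a) * h2
  · linear_combination (a * C.σ a - b) * h2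

/-- The stabiliser. -/
theorem card_stab : Nat.card ↥(S.H ⊓ borel C) = Nat.card S.W * Nat.card S.Z0 * Nat.card S.L := by
  classical
  choose bf hbf hbm using fun a : S.W => a.2
  rw [← Nat.card_prod, ← Nat.card_prod]
  have hmem : ∀ x : (S.W × S.Z0) × S.L, ∃ h : (bf x.1.1 + x.1.2) + C.σ (bf x.1.1 + x.1.2) +
      (x.1.1 : F) * C.σ x.1.1 = 0, uEl C _ _ h * dEl C ((x.2 : Fˣ) : F) (x.2 : Fˣ).ne_zero ∈ S.H ⊓ borel C := by
    intro x
    obtain ⟨hz, hzm⟩ := x.1.2.2
    have hz' : (x.1.2 : F) + C.σ x.1.2 = 0 := skew_of_zero C hz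
    have h : (bf x.1.1 + x.1.2) + C.σ (bf x.1.1 + x.1.2) + (x.1.1 : F) * C.σ x.1.1 = 0 := by
      rw [map_add]; linear_combination hbf x.1.1 + hz'
    refine ⟨h, S.H.mul_mem ?_ x.2.2, mul_mem (uEl_mem C h) (dEl_mem C _)⟩
    convert S.H.mul_mem (hbm x.1.1) hzm
    exact mat_inj C (by rw [mat_uEl, mat_mul, mat_uEl, mat_uEl, uu_mul]; simp)
  refine (Nat.card_congr (Equiv.ofBijective
    (fun x => (⟨_, (hmem x).2⟩ : ↥(S.H ⊓ borel C))) ⟨?_, ?_⟩)).symm
  · rintro ⟨⟨a, z⟩, l⟩ ⟨⟨a', z'⟩, l'⟩ e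
    have e1 := congrArg Subtype.val e
    obtain ⟨ea, eb, el'⟩ := form_inj C (l : Fˣ).ne_zero (l' : Fˣ).ne_zero _ _ e1
    obtain rfl : a = a' := Subtype.ext ea
    obtain rfl : z = z' := Subtype.ext (add_left_cancel eb)
    obtain rfl : l = l' := Subtype.ext (Units.ext el')
    rfl
  · rintro ⟨g, hgH, hgB⟩
    obtain ⟨a, b, l, h, e, hu, hl⟩ := S.split hgB hgH
    have ha : a ∈ S.W := ⟨b, h, hu⟩
    have hz : b - bf ⟨a, ha⟩ ∈ S.Z0 := by
      refine ⟨zero_of_skew C (by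
        rw [mem_skew, map_sub]; linear_combination h - hbf ⟨a, ha⟩), ?_⟩
      convert S.H.mul_mem (S.H.inv_mem (hbm ⟨a, ha⟩)) hu
      rw [eq_inv_mul_iff_mul_eq]
      exact mat_inj C (by rw [mat_uEl, mat_mul, mat_uEl, mat_uEl, uu_mul]; simp)
    refine ⟨((⟨a, ha⟩, ⟨_, hz⟩), ⟨l, hl⟩), Subtype.ext (mat_inj C ?_)⟩
    subst e
    simp only [mat_mul, mat_uEl]
    congr 2
    exact add_sub_cancel _ _

theorem card_H : Nat.card S.H = (q ^ 3 + 1) * (Nat.card S.W * Nat.card S.Z0 * Nat.card S.L) := by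
  rw [← S.card_stab, ← index_borel C]
  have h := (borel C).subgroupOf S.H |>.card_mul_index
  have e1 : Nat.card ↥((borel C).subgroupOf S.H) = Nat.card ↥(S.H ⊓ borel C) := by
    rw [← Subgroup.inf_subgroupOf_left, Nat.card_congr (Subgroup.subgroupOfEquivOfLe inf_le_left).toEquiv]
  have e2 : ((borel C).subgroupOf S.H).index = (borel C).index := by
    refine Nat.card_congr (Equiv.ofBijective
      (Quotient.map' (fun h : S.H => (h : G)) fun a b hab => ?_) ⟨?_, ?_⟩)
    · rw [QuotientGroup.leftRel_apply] at hab ⊢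
      exact hab
    · intro x y
      induction x using Quotient.inductionOn' with | _ a =>
      induction y using Quotient.inductionOn' with | _ b =>
      intro e
      exact Quotient.sound' (QuotientGroup.leftRel_apply.2 (Subgroup.mem_subgroupOf.2
        (QuotientGroup.leftRel_apply.1 (Quotient.exact' e))))
    · intro x
      induction x using Quotient.inductionOn' with | _ g =>
      obtain ⟨h, hh, hb⟩ := S.trans g
      exact ⟨Quotient.mk'' ⟨h, hh⟩, Quotient.sound' (QuotientGroup.leftRel_apply.2 hb)⟩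
  rw [← h, e1, e2, mul_comm]

theorem stab_dvd : Nat.card S.W * Nat.card S.Z0 * Nat.card S.L ∣ q ^ 3 * (q ^ 2 - 1) := by
  rw [← card_borel C, ← S.card_stab]
  exact Subgroup.card_dvd_of_le inf_le_right

theorem stab_large (hi : S.H.index ≤ q ^ 3) :
    q ^ 2 - 1 ≤ Nat.card S.W * Nat.card S.Z0 * Nat.card S.L := by
  have h := S.H.card_mul_index
  rw [card_group C, S.card_H, mul_assoc] at h
  have h' := Nat.eq_of_mul_eq_mul_left (Nat.succ_pos _) h
  have h'' := (Nat.mul_le_mul_left (Nat.card S.W * Nat.card S.Z0 * Nat.card S.L) hi)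
  rw [h', mul_comm (q ^ 3)] at h''
  exact Nat.le_of_mul_le_mul_right h'' (pow_pos (by have := q_two_le C; omega) 3)

/-- A proper subgroup does not contain a whole root group. -/
theorem Z0_lt (hq : 3 ≤ q) (hne : S.H ≠ ⊤) : S.Z0 < skew C := by
  refine lt_of_le_of_ne S.Z0_le fun heq => hne ?_
  obtain ⟨d, hd0, hd⟩ := exists_skew C
  have hd' : d ∈ S.Z0 := heq.symm ▸ hd
  obtain ⟨hd2, hdH⟩ := hd'
  have hF : Fintype.card F = q ^ 2 := by rw [← Nat.card_eq_fintype_card, card_F C]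
  obtain ⟨τ, -, hf, hqτ⟩ := UnitaryStd.exists_setup (n := 3) hF (by omega)
  have hsimp : IsSimpleGroup (Cfsg.PSU 3 F q) :=
    UnitaryStd.isSimpleGroup_psu hf le_rfl fun _ => by rw [hqτ]; exact hq
  obtain ⟨x, hx⟩ : ∃ x, x = uEl C 0 d hd2 := ⟨_, rfl⟩
  have hcl : Subgroup.normalClosure {x} ≤ S.H := by
    refine (Subgroup.closure_le _).2 fun y hy => ?_
    obtain ⟨z, hz, hzc⟩ := Group.mem_conjugatesOfSet_iff.1 hy
    obtain ⟨g, rfl⟩ := isConj_iff.1 hzc
    rw [Set.mem_singleton_iff.1 hz]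
    obtain ⟨h, hh, hb⟩ := S.trans g
    obtain ⟨b, hbdef⟩ : ∃ b, b = h⁻¹ * g := ⟨_, rfl⟩
    rw [← hbdef] at hb
    rw [show g * x * g⁻¹ = h * (b * x * b⁻¹) * h⁻¹ by rw [hbdef]; group]
    refine S.H.mul_mem (S.H.mul_mem hh ?_) (S.H.inv_mem hh)
    obtain ⟨a, c, l, hl, hac, e, -⟩ := borel_form C hb
    have hsk : nu C l * d ∈ skew C := mul_mem_skew C (by rw [nu, map_mul, C.hinv, mul_comm]) hd
    rw [← heq] at hsk
    obtain ⟨hsk2, hskH⟩ := hsk
    convert hskH
    rw [e, hx, mul_inv_eq_iff_eq_mul]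
    refine mat_inj C ?_
    simp only [mat_mul, mat_uEl, mat_dEl]
    rw [Matrix.mul_assoc, dd_uu C hl, ← Matrix.mul_assoc, ← Matrix.mul_assoc, uu_mul, uu_mul]
    congr 2 <;> simp [add_comm]
  have hn := (Subgroup.Normal.map (inferInstance : (Subgroup.normalClosure {x}).Normal)
    (QuotientGroup.mk' (Subgroup.center G)) (QuotientGroup.mk'_surjective _))
  rcases hn.eq_bot_or_eq_top with h | h
  · exfalso
    rw [Subgroup.map_eq_bot_iff, QuotientGroup.ker_mk'] at h
    have hxc : x ∈ Subgroup.center G := h (Subgroup.subset_normalClosure rfl)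
    have := Subgroup.mem_center_iff.1 hxc (wEl C)
    have e := congrArg (fun g => mat C g 0 0) this
    simp [hx, mat_mul, mat_uEl, mat_wEl, uu, ww, Matrix.mul_apply, Fin.sum_univ_three] at e
    exact hd0 e.symm
  · rw [eq_top_iff]
    intro g _
    obtain ⟨y, hy, e⟩ : (g : G ⧸ Subgroup.center G) ∈ (Subgroup.normalClosure {x}).map
        (QuotientGroup.mk' (Subgroup.center G)) := h ▸ Subgroup.mem_top _
    have := S.H.mul_mem (hcl hy) (S.center (QuotientGroup.eq.1 e))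
    rwa [mul_inv_cancel_left] at this

end Sub

end Cfsg.Agent.PSU3Index
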