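import Cfsg.Agent.Lib.PSU3Index.Model

/-!
Additive subgroups of a field with an involution.
-/

set_option autoImplicit false
set_option linter.unusedSectionVars false

namespace Cfsg.Agent.PSU3Index

open Hermitian

variable {F : Type*} [Field F] [Fintype F] {q : ℕ} (C : Ctx F q)

include C in
theorem card_F : Nat.card F = q ^ 2 := by rw [card_eq_sq C.hne C.hinv, C.hq]

include C in
theorem q_two_le : 2 ≤ q := C.hq ▸ Finite.one_lt_card

/-- The elements of trace zero. -/
def skew : AddSubgroup F where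
  carrier := {x | x + C.σ x = 0}
  zero_mem' := by simp
  add_mem' := fun {x y} hx hy => by
    simp only [Set.mem_ofPred_eq, map_add] at hx hy ⊢
    linear_combination hx + hy
  neg_mem' := fun {x} hx => by
    simp only [Set.mem_ofPred_eq, map_neg] at hx ⊢
    linear_combination -hx

theorem mem_skew {x : F} : x ∈ skew C ↔ x + C.σ x = 0 := Iff.rfl

theorem mul_mem_skew {e x : F} (he : C.σ e = e) (hx : x ∈ skew C) : e * x ∈ skew C := by
  rw [mem_skew] at hx ⊢
  rw [map_mul, he, ← mul_add, hx, mul_zero]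

theorem exists_skew : ∃ d : F, d ≠ 0 ∧ d ∈ skew C := by
  obtain ⟨d, hd0, hd⟩ := SU3Root.exists_skew C.hne C.hinv
  exact ⟨d, hd0, by rw [mem_skew, hd, add_neg_cancel]⟩

theorem card_skew : Nat.card (skew C) = q := by
  obtain ⟨d, hd0, hd⟩ := exists_skew C
  conv_rhs => rw [← C.hq]
  refine Nat.card_congr
    { toFun := fun x => ⟨(x : F) / d, ?_⟩
      invFun := fun e => ⟨(e : F) * d, mul_mem_skew C e.2 hd⟩
      left_inv := fun x => Subtype.ext (div_mul_cancel₀ _ hd0)
      right_inv := fun e => Subtype.ext (mul_div_cancel_right₀ _ hd0) }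
  rw [mem_fixed, map_div₀, eq_neg_of_add_eq_zero_right x.2, eq_neg_of_add_eq_zero_right hd, neg_div_neg_eq]

theorem card_trace_fibre {x : F} (hx : C.σ x = x) : Nat.card {b : F // b + C.σ b + x = 0} = q := by
  obtain ⟨b₀, hb₀⟩ := exists_trace C.hne C.hinv (x := -x) (by rw [map_neg, hx])
  conv_rhs => rw [← card_skew C]
  refine Nat.card_congr
    { toFun := fun b => ⟨b.1 - b₀, ?_⟩
      invFun := fun s => ⟨(s : F) + b₀, ?_⟩
      left_inv := fun b => Subtype.ext (sub_add_cancel _ _)
      right_inv := fun s => Subtype.ext (add_sub_cancel_right _ _) }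
  · rw [mem_skew, map_sub]
    linear_combination b.2 - hb₀
  · have := s.2
    rw [mem_skew] at this
    rw [map_add]
    linear_combination this + hb₀

theorem card_pairs : Nat.card {p : F × F // p.2 + C.σ p.2 + p.1 * C.σ p.1 = 0} = q ^ 3 := by
  classical
  have e : {p : F × F // p.2 + C.σ p.2 + p.1 * C.σ p.1 = 0} ≃ Σ a : F, {b : F // b + C.σ b + a * C.σ a = 0} :=
    { toFun := fun p => ⟨p.1.1, p.1.2, p.2⟩
      invFun := fun s => ⟨(s.1, s.2.1), s.2.2⟩
      left_inv := fun p => rfl
      right_inv := fun s => rfl }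
  rw [Nat.card_congr e, Nat.card_sigma,
    Finset.sum_congr rfl fun a _ => card_trace_fibre C (by rw [map_mul, C.hinv, mul_comm]),
    Finset.sum_const, Finset.card_univ, ← Nat.card_eq_fintype_card, card_F C, smul_eq_mul]
  ring

theorem card_norm_one : Nat.card {a : F // a * C.σ a = 1} = q + 1 := by
  rw [card_norm_fibre C.hne C.hinv (map_one _) one_ne_zero, C.hq]

/-- A proper stable subgroup is small. -/
theorem card_mul_le {E : Set F} {W V : AddSubgroup F} (hlt : W < V) (hW : ∀ e ∈ E, ∀ w ∈ W, e * w ∈ W)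
    (hV : ∀ e ∈ E, ∀ v ∈ V, e * v ∈ V) : Nat.card E * Nat.card W ≤ Nat.card V := by
  obtain ⟨v, hv, hvW⟩ := SetLike.exists_of_lt hlt
  rw [← Nat.card_prod]
  refine Nat.card_le_card_of_injective
    (fun x : E × W => (⟨(x.1 : F) * v + x.2, V.add_mem (hV _ x.1.2 _ hv) (hlt.le x.2.2)⟩ : V)) ?_
  rintro ⟨⟨a, ha⟩, ⟨w, hw⟩⟩ ⟨⟨a', ha'⟩, ⟨w', hw'⟩⟩ h
  have h' : a * v + w = a' * v + w' := congrArg Subtype.val h
  by_cases hd : a = a'
  · subst hd
    simpa using h'
  · exfalso
    have hd' : a - a' ≠ 0 := sub_ne_zero.2 hd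
    let m : W → W := fun w => ⟨(a - a') * (w : F), by
      rw [sub_mul]; exact W.sub_mem (hW _ ha _ w.2) (hW _ ha' _ w.2)⟩
    have hm : Function.Injective m := fun x y hxy =>
      Subtype.ext (mul_left_cancel₀ hd' (congrArg Subtype.val hxy))
    obtain ⟨⟨w₀, hw₀⟩, e⟩ := Finite.injective_iff_surjective.1 hm ⟨w' - w, W.sub_mem hw' hw⟩
    have e' : (a - a') * w₀ = w' - w := congrArg Subtype.val e
    have hv0 : w₀ = v := mul_left_cancel₀ hd' (e'.trans (by linear_combination -h'))
    exact hvW (hv0 ▸ hw₀)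

/-- The stabiliser of an additive subgroup is a field. -/
def stabField (W : AddSubgroup F) : Subfield F where
  carrier := {x | ∀ w ∈ W, x * w ∈ W}
  zero_mem' := fun w _ => by simp
  one_mem' := fun w hw => by simpa using hw
  add_mem' := fun {x y} hx hy w hw => by rw [add_mul]; exact W.add_mem (hx w hw) (hy w hw)
  neg_mem' := fun {x} hx w hw => by rw [neg_mul]; exact W.neg_mem (hx w hw)
  mul_mem' := fun {x y} hx hy w hw => by rw [mul_assoc]; exact hx _ (hy w hw)
  inv_mem' := fun x hx w hw => by
    rcases eq_or_ne x 0 with rfl | h0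
    · simp
    let m : W → W := fun w => ⟨x * (w : F), hx _ w.2⟩
    have hm : Function.Injective m := fun a b hab =>
      Subtype.ext (mul_left_cancel₀ h0 (congrArg Subtype.val hab))
    obtain ⟨⟨w₀, hw₀⟩, e⟩ := Finite.injective_iff_surjective.1 hm ⟨w, hw⟩
    have e' : x * w₀ = w := congrArg Subtype.val e
    rw [← e', ← mul_assoc, inv_mul_cancel₀ h0, one_mul]
    exact hw₀

theorem mem_stabField {W : AddSubgroup F} {x : F} : x ∈ stabField W ↔ ∀ w ∈ W, x * w ∈ W := Iff.rfl

/-- A stable subgroup has order a power of the field. -/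
theorem exists_pow (E : Subfield F) (W : AddSubgroup F) (h : ∀ e ∈ E, ∀ w ∈ W, e * w ∈ W) :
    ∃ k, Nat.card W = Nat.card E ^ k := by
  let Ws : Submodule E F :=
    { carrier := W
      zero_mem' := W.zero_mem
      add_mem' := fun hx hy => W.add_mem hx hy
      smul_mem' := fun e x hx => h e e.2 x hx }
  exact ⟨Module.finrank E Ws, Module.natCard_eq_pow_finrank (K := E) (V := Ws)⟩

section CharTwo

variable (h2 : (2 : F) = 0)
include h2

theorem two_neg (x : F) : -x = x := by linear_combination (-x) * h2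

theorem fixed_iff_skew {x : F} : C.σ x = x ↔ x ∈ skew C := by
  rw [mem_skew, add_eq_zero_iff_eq_neg, two_neg h2, eq_comm]

/-- In characteristic two a subgroup with all norms in a proper subgroup is small. -/
theorem card_lt_of_norm {W Z : AddSubgroup F} (hZ : Z < skew C) (hN : ∀ a ∈ W, a * C.σ a ∈ Z) :
    Nat.card W < q := by
  classical
  -- a character of order two
  obtain ⟨H1, hH1, hZH⟩ := exists_index_two hZ h2
  let e : F → ℤ := fun x => if x ∈ H1 then 1 else -1
  have he : ∀ {x y : F}, x ∈ skew C → y ∈ skew C → e (x + y) = e x * e y := by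
    intro x y hx hy
    obtain ⟨hsub, hodd⟩ := hH1
    simp only [e]
    by_cases hx1 : x ∈ H1
    · by_cases hy1 : y ∈ H1
      · simp [hx1, hy1, H1.add_mem hx1 hy1]
      · have : x + y ∉ H1 := fun hs => hy1 (by simpa using H1.sub_mem hs hx1)
        simp [hx1, hy1, this]
    · by_cases hy1 : y ∈ H1
      · have : x + y ∉ H1 := fun hs => hx1 (by simpa using H1.sub_mem hs hy1)
        simp [hx1, hy1, this]
      · simp [hx1, hy1, hodd x hx hx1 y hy hy1]
  have hN' : ∀ x : F, x * C.σ x ∈ skew C := fun x =>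
    (fixed_iff_skew C h2).1 (by rw [map_mul, C.hinv, mul_comm])
  let B : F → F → F := fun x y => x * C.σ y + y * C.σ x
  have hB : ∀ x y, B x y ∈ skew C := fun x y =>
    (fixed_iff_skew C h2).1 (by simp only [B, map_add, map_mul, C.hinv]; ring)
  let f : F → ℤ := fun x => e (x * C.σ x)
  have hf : ∀ x y, f (x + y) = f x * f y * e (B x y) := fun x y => by
    simp only [f]
    rw [show (x + y) * C.σ (x + y) = x * C.σ x + y * C.σ y + B x y by simp only [B, map_add]; ring,
      he ((skew C).add_mem (hN' x) (hN' y)) (hB x y), he (hN' x) (hN' y)]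
  have hfW : ∀ w ∈ W, f w = 1 := fun w hw => if_pos (hZH (hN w hw))
  obtain ⟨hsub, hodd⟩ := hH1
  -- a non-trivial sum vanishes
  have hchar : ∀ {S : AddSubgroup F} (g : F → F), (∀ a ∈ S, g a ∈ skew C) → (∀ a ∈ S, ∀ b ∈ S, g (a + b) = g a + g b) →
      (∃ a ∈ S, g a ∉ H1) → ∑ a : S, e (g a) = 0 := by
    intro S g hg hadd ⟨a₀, ha₀, hga⟩
    have h := Fintype.sum_equiv (Equiv.addLeft (⟨a₀, ha₀⟩ : S)) (fun a : S => e (g (a₀ + a)))
      (fun a : S => e (g a)) (fun a => rfl)
    simp only [hadd a₀ ha₀ _ (Subtype.coe_prop _), he (hg a₀ ha₀) (hg _ (Subtype.coe_prop _)),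
      ← Finset.mul_sum] at h
    rw [show e (g a₀) = -1 from if_neg hga] at h
    linarith
  -- orthogonal complement
  let Wp : Finset F := Finset.univ.filter fun x => ∀ w ∈ W, B x w ∈ H1
  have hinner : ∀ x, ∑ w : W, e (B x w) = if x ∈ Wp then (Nat.card W : ℤ) else 0 := by
    intro x
    split_ifs with hx
    · rw [Finset.sum_congr rfl fun (w : W) _ => (if_pos ((Finset.mem_filter.1 hx).2 w w.2) : e (B x w) = 1)]
      simp
    · refine hchar (fun w => B x w) (fun a _ => hB x a) (fun a _ b _ => ?_) ?_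
      · simp only [B, map_add]; ring
      · simpa [Wp] using hx
  -- the sum of all values
  obtain ⟨d, hd, hdH⟩ : ∃ d ∈ skew C, d ∉ H1 := SetLike.exists_of_lt hsub
  have hskew : ∑ x : skew C, e (x : F) = 0 := hchar (S := skew C) id (fun a ha => ha) (fun a _ b _ => rfl) ⟨d, hd, hdH⟩
  have hsum : ∑ x : F, f x = -(q : ℤ) := by
    have h0 : e 0 = 1 := if_pos H1.zero_mem
    rw [← Finset.sum_fiberwise_of_maps_to (t := (skew C : Set F).toFinset) (g := fun x => x * C.σ x)
      (fun x _ => Set.mem_toFinset.2 (hN' x))]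
    have hstep : ∀ k ∈ (skew C : Set F).toFinset,
        ∑ x ∈ Finset.univ.filter (fun x => x * C.σ x = k), f x = (if k = 0 then 1 else (q + 1 : ℤ)) * e k := by
      intro k hk
      rw [Finset.sum_congr rfl (g := fun _ => e k) fun x hx => by
        show e (x * C.σ x) = e k; rw [(Finset.mem_filter.1 hx).2], Finset.sum_const, nsmul_eq_mul]
      congr 1
      split_ifs with hk0
      · subst hk0
        rw [show Finset.univ.filter (fun x : F => x * C.σ x = 0) = {0} by
          ext x; simp [mul_eq_zero]]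
        simp
      · have := card_norm_fibre C.hne C.hinv ((fixed_iff_skew C h2).2 (Set.mem_toFinset.1 hk)) hk0
        rw [C.hq, Nat.card_eq_fintype_card, Fintype.card_subtype] at this
        rw [this]
        push_cast
        rfl
    rw [Finset.sum_congr rfl hstep, ← Finset.sum_coe_sort]
    have hrew : ∀ k : (skew C : Set F).toFinset, (if (k : F) = 0 then 1 else (q + 1 : ℤ)) * e k =
        (q + 1 : ℤ) * e k - (q : ℤ) * (if (k : F) = 0 then 1 else 0) := by
      intro k
      split_ifs with hk0
      · rw [hk0, h0]; ring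
      · ring
    simp only [hrew, Finset.sum_sub_distrib, ← Finset.mul_sum]
    rw [Finset.sum_coe_sort (skew C : Set F).toFinset e,
      Finset.sum_coe_sort (skew C : Set F).toFinset (fun k => if k = 0 then (1 : ℤ) else 0),
      Finset.sum_ite_eq', if_pos (Set.mem_toFinset.2 (skew C).zero_mem)]
    rw [show ∑ x ∈ (skew C : Set F).toFinset, e x = ∑ x : skew C, e (x : F) from
      (Finset.sum_subtype _ (fun x => Set.mem_toFinset) e), hskew]
    ring
  -- restriction to the complement
  have hW0 : (Nat.card W : ℤ) ≠ 0 := Int.natCast_ne_zero.2 (Nat.card_pos).ne'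
  have hres : ∑ x ∈ Wp, f x = -(q : ℤ) := by
    refine mul_left_cancel₀ hW0 ?_
    have h1 : ∑ w : W, ∑ x : F, f (x + w) = (Nat.card W : ℤ) * -(q : ℤ) := by
      have h2 : ∀ w : W, ∑ x : F, f (x + (w : F)) = -(q : ℤ) := fun w =>
        (Fintype.sum_equiv (Equiv.addRight (w : F)) _ f fun x => rfl).trans hsum
      simp [h2]
    rw [← h1, Finset.sum_comm,
      Finset.sum_congr rfl fun x _ => show ∑ w : W, f (x + w) = f x * ∑ w : W, e (B x w) by
        rw [Finset.mul_sum]
        exact Finset.sum_congr rfl fun w _ => by rw [hf, hfW w w.2, mul_one]]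
    simp only [hinner, mul_ite, mul_zero]
    rw [Finset.sum_ite_mem, Finset.univ_inter, Finset.mul_sum]
    exact Finset.sum_congr rfl fun x _ => mul_comm _ _
  -- the order of the complement
  have hcard : (Nat.card W : ℤ) * (Wp.card : ℤ) = (q : ℤ) ^ 2 := by
    have h1 : ∑ x : F, ∑ w : W, e (B x w) = (Nat.card W : ℤ) * (Wp.card : ℤ) := by
      simp only [hinner]
      rw [Finset.sum_ite_mem, Finset.univ_inter, Finset.sum_const, nsmul_eq_mul, mul_comm]
    rw [← h1, Finset.sum_comm, Finset.sum_eq_single (0 : W)]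
    · simp only [ZeroMemClass.coe_zero, B, map_zero, mul_zero, zero_mul, add_zero]
      rw [Finset.sum_congr rfl fun (x : F) _ => (if_pos H1.zero_mem : e 0 = 1), Finset.sum_const,
        Finset.card_univ, ← Nat.card_eq_fintype_card, card_F C]
      simp
    · intro w _ hw0
      have hw : (w : F) ≠ 0 := fun h => hw0 (Subtype.ext h)
      obtain ⟨μ, hμ⟩ := exists_trace C.hne C.hinv (x := d) ((fixed_iff_skew C h2).2 hd)
      have := hchar (S := (⊤ : AddSubgroup F)) (fun x => B x w) (fun a _ => hB a w)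
        (fun a _ b _ => by simp only [B, map_add]; ring) ⟨μ / C.σ w, trivial, by
          have : B (μ / C.σ w) w = d := by
            have hw' : C.σ w ≠ 0 := (map_ne_zero C.σ).2 hw
            simp only [B, map_div₀, C.hinv]
            rw [div_mul_cancel₀ _ hw', mul_div_cancel₀ _ hw]
            exact hμ
          rwa [this]⟩
      rw [← this]
      exact (Fintype.sum_equiv (Equiv.subtypeUnivEquiv (fun x => AddSubgroup.mem_top x)) _ _ fun x => rfl).symm
    · simp
  by_contra hge
  push Not at hge
  have hsubW : (W : Set F).toFinset ⊆ Wp := by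
    intro x hx
    refine Finset.mem_filter.2 ⟨Finset.mem_univ _, fun w hw => hZH ?_⟩
    have hxW : x ∈ W := Set.mem_toFinset.1 hx
    have : B x w = (x + w) * C.σ (x + w) - x * C.σ x - w * C.σ w := by simp only [B, map_add]; ring
    rw [this]
    exact Z.sub_mem (Z.sub_mem (hN _ (W.add_mem hxW hw)) (hN _ hxW)) (hN _ hw)
  have hWc : (W : Set F).toFinset.card = Nat.card W := by
    rw [Set.toFinset_card, Nat.card_eq_fintype_card]
    rfl
  have hle : Wp.card ≤ (W : Set F).toFinset.card := by
    rw [hWc]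
    have : Nat.card W * Wp.card = q ^ 2 := by exact_mod_cast hcard
    have := q_two_le C
    nlinarith
  rw [← Finset.eq_of_subset_of_card_le hsubW hle, Finset.sum_congr rfl fun x hx => hfW x (Set.mem_toFinset.1 hx),
    Finset.sum_const, nsmul_one] at hres
  have : (0 : ℤ) ≤ ((W : Set F).toFinset.card : ℤ) := Int.natCast_nonneg _
  have := q_two_le C
  omega
where
  exists_index_two {Z S : AddSubgroup F} (hZ : Z < S) (h2 : (2 : F) = 0) :
      ∃ H1 : AddSubgroup F, (H1 < S ∧ ∀ x ∈ S, x ∉ H1 → ∀ y ∈ S, y ∉ H1 → x + y ∈ H1) ∧ Z ≤ H1 := by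
    classical
    obtain ⟨M, hM, hmax⟩ := Finite.exists_le_maximal (p := fun M : AddSubgroup F => M < S) hZ
    refine ⟨M, ⟨hmax.prop, fun x hx hxM y hy hyM => ?_⟩, hM⟩
    let M' : AddSubgroup F :=
      { carrier := {z | z ∈ M ∨ z + x ∈ M}
        zero_mem' := Or.inl M.zero_mem
        add_mem' := by
          rintro a b (ha | ha) (hb | hb)
          · exact Or.inl (M.add_mem ha hb)
          · exact Or.inr (by rw [add_assoc]; exact M.add_mem ha hb)
          · exact Or.inr (by rw [add_right_comm]; exact M.add_mem ha hb)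
          · refine Or.inl ?_
            have := M.add_mem ha hb
            rwa [show a + x + (b + x) = a + b by linear_combination x * h2] at this
        neg_mem' := fun {z} hz => by rwa [two_neg h2] }
    have hle : M ≤ M' := fun z hz => Or.inl hz
    have hxM' : x ∈ M' := Or.inr (by rw [show x + x = 0 by linear_combination x * h2]; exact M.zero_mem)
    have hS : S ≤ M' := by
      by_contra hns
      have hlt : M' < S := lt_of_le_of_ne (fun z hz => by
        rcases hz with h | h
        · exact hmax.prop.le h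
        · simpa using S.sub_mem (hmax.prop.le h) hx) (fun e => hns e.ge)
      exact hxM (hmax.le_of_ge hlt hle hxM')
    rcases hS hy with h | h
    · exact absurd h hyM
    · rwa [add_comm]

end CharTwo

end Cfsg.Agent.PSU3Index
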