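import Cfsg.Agent.Lib.PSU3Index.Field

/-!
The action of `SU₃(q)` on the isotropic lines, as cosets of the stabiliser of one of them.
-/

set_option autoImplicit false
set_option linter.unusedSectionVars false

namespace Cfsg.Agent.PSU3Index

open Matrix Hermitian
open Cfsg.Agent.SU3Root (Uni Frame rootE uu ww dd)

variable {F : Type*} [Field F] [Fintype F] {q : ℕ}

local notation "M3" => Matrix (Fin 3) (Fin 3) F
set_option quotPrecheck false in
local notation "G" => ↥(Cfsg.SU 3 F q)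

variable (C : Ctx F q)

/-- The swap of the two isotropic lines of the frame. -/
def wEl : G := el C _ SU3Root.uni_ww

theorem mat_wEl : mat C (wEl C) = ww := mat_el C _ _

theorem wEl_sq : wEl C * wEl C = 1 := by
  refine mat_inj C ?_
  rw [mat_mul, mat_wEl, mat_one]
  ext i j
  fin_cases i <;> fin_cases j <;> simp [ww, Matrix.mul_apply, Fin.sum_univ_three]

theorem wEl_not_mem : wEl C ∉ borel C := fun h => by simpa [mem_borel, mat_wEl, ww] using h.2

/-- The first column. -/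
def col (g : G) (i : Fin 3) : F := mat C g i 0

theorem col_mul (g h : G) (i : Fin 3) :
    col C (g * h) i = mat C g i 0 * col C h 0 + mat C g i 1 * col C h 1 + mat C g i 2 * col C h 2 := by
  simp [col, mat_mul, Matrix.mul_apply, Fin.sum_univ_three]

/-- The Hermitian form of the frame. -/
def herm (u v : Fin 3 → F) : F := u 0 * C.σ (v 2) + u 1 * C.σ (v 1) + u 2 * C.σ (v 0)

theorem herm_mulVec (g : G) (u v : Fin 3 → F) :
    herm C (mat C g *ᵥ u) (mat C g *ᵥ v) = herm C u v := by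
  have hu := (uni_mat C g).1
  have e : ∀ i j, ((mat C g)ᵀ * (SU3Root.J : M3) * (mat C g).map C.σ) i j = (SU3Root.J : M3) i j :=
    fun i j => by rw [hu]
  have e00 := e 0 0
  have e01 := e 0 1
  have e02 := e 0 2
  have e10 := e 1 0
  have e11 := e 1 1
  have e12 := e 1 2
  have e20 := e 2 0
  have e21 := e 2 1
  have e22 := e 2 2
  simp [SU3Root.J, Matrix.mul_apply, Fin.sum_univ_three] at e00 e01 e02 e10 e11 e12 e20 e21 e22
  simp [herm, Matrix.mulVec, dotProduct, Fin.sum_univ_three]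
  linear_combination (u 0 * C.σ (v 0)) * e00 + (u 0 * C.σ (v 1)) * e01 + (u 0 * C.σ (v 2)) * e02 +
    (u 1 * C.σ (v 0)) * e10 + (u 1 * C.σ (v 1)) * e11 + (u 1 * C.σ (v 2)) * e12 +
    (u 2 * C.σ (v 0)) * e20 + (u 2 * C.σ (v 1)) * e21 + (u 2 * C.σ (v 2)) * e22

/-- An isotropic line off the first one is the image of the first one. -/
theorem exists_col (v : Fin 3 → F) (hv : herm C v v = 0) (h2 : v 2 ≠ 0) :
    ∃ g : G, ∃ c : F, c ≠ 0 ∧ g ∉ borel C ∧ ∀ i, col C g i = c * v i := by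
  have hσ : C.σ (v 2) ≠ 0 := (map_ne_zero C.σ).2 h2
  have h : v 0 / v 2 + C.σ (v 0 / v 2) + v 1 / v 2 * C.σ (v 1 / v 2) = 0 := by
    simp only [herm] at hv
    rw [map_div₀, map_div₀]
    field_simp
    linear_combination hv
  refine ⟨uEl C _ _ h * wEl C, (v 2)⁻¹, inv_ne_zero h2, ?_, ?_⟩
  · rw [Subgroup.mul_mem_cancel_left _ (uEl_mem C h)]
    exact wEl_not_mem C
  · intro i
    fin_cases i <;> simp [col, mat_mul, mat_uEl, mat_wEl, uu, ww, Matrix.mul_apply, Fin.sum_univ_three, h2,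
      div_eq_mul_inv, mul_comm]

/-- The Bruhat decomposition. -/
theorem bruhat {g : G} (hg : g ∉ borel C) :
    ∃ (a b : F) (h : b + C.σ b + a * C.σ a = 0), (uEl C a b h * wEl C)⁻¹ * g ∈ borel C := by
  have hiso : herm C (col C g) (col C g) = 0 := by
    have e : mat C g *ᵥ Pi.single 0 1 = col C g := by
      funext i
      simp [col]
    rw [← e, herm_mulVec]
    simp [herm]
  have h2 : col C g 2 ≠ 0 := by
    intro h2
    refine hg ((mem_borel C).2 ⟨?_, h2⟩)
    have h1 : col C g 1 * C.σ (col C g 1) = 0 := by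
      simpa [herm, h2] using hiso
    rcases mul_eq_zero.1 h1 with h | h
    · exact h
    · exact (map_eq_zero C.σ).1 h
  have hσ : C.σ (col C g 2) ≠ 0 := (map_ne_zero C.σ).2 h2
  have h : col C g 0 / col C g 2 + C.σ (col C g 0 / col C g 2) +
      col C g 1 / col C g 2 * C.σ (col C g 1 / col C g 2) = 0 := by
    simp only [herm] at hiso
    rw [map_div₀, map_div₀]
    field_simp
    linear_combination hiso
  refine ⟨_, _, h, ?_⟩
  obtain ⟨k, hk⟩ : ∃ k, k = (uEl C _ _ h * wEl C)⁻¹ * g := ⟨_, rfl⟩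
  rw [← hk]
  have e : g = uEl C _ _ h * wEl C * k := by rw [hk, mul_inv_cancel_left]
  have key : ∀ i, col C g i = mat C (uEl C _ _ h * wEl C) i 0 * col C k 0 +
      mat C (uEl C _ _ h * wEl C) i 1 * col C k 1 + mat C (uEl C _ _ h * wEl C) i 2 * col C k 2 := fun i => by
    conv_lhs => rw [e]
    exact col_mul C _ _ i
  have k2 := key 2
  have k1 := key 1
  have k0 := key 0
  simp [mat_mul, mat_uEl, mat_wEl, uu, ww, Matrix.mul_apply, Fin.sum_univ_three] at k0 k1 k2
  rw [← k2] at k0 k1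
  rw [div_mul_cancel₀ _ h2] at k0 k1
  have hk1 : col C k 1 = 0 := by linear_combination k1
  exact (mem_borel C).2 ⟨hk1, by
    show col C k 2 = 0
    rw [hk1] at k0
    linear_combination -k0⟩

/-- The points. -/
abbrev Pt := G ⧸ borel C

/-- The base point. -/
def base : Pt C := ((1 : G) : G ⧸ borel C)

theorem smul_base (g : G) : g • base C = (g : G ⧸ borel C) := by
  rw [base, MulAction.Quotient.smul_coe, smul_eq_mul, mul_one]

theorem smul_base_eq_iff {g : G} : g • base C = base C ↔ g ∈ borel C := by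
  rw [smul_base, base, QuotientGroup.eq, mul_one, inv_mem_iff]

theorem smul_base_eq_smul {g h : G} : g • base C = h • base C ↔ g⁻¹ * h ∈ borel C := by
  rw [smul_base, smul_base, QuotientGroup.eq]

theorem exists_smul_base (x : Pt C) : ∃ g : G, g • base C = x :=
  QuotientGroup.induction_on x fun g => ⟨g, smul_base C g⟩

theorem uEl_w_eq {a b a' b' : F} (h : b + C.σ b + a * C.σ a = 0) (h' : b' + C.σ b' + a' * C.σ a' = 0)
    (e : (uEl C a b h * wEl C)⁻¹ * (uEl C a' b' h' * wEl C) ∈ borel C) : a = a' ∧ b = b' := by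
  obtain ⟨k, hk⟩ : ∃ k, k = (uEl C a b h * wEl C)⁻¹ * (uEl C a' b' h' * wEl C) := ⟨_, rfl⟩
  rw [← hk] at e
  have e' : uEl C a' b' h' * wEl C = uEl C a b h * wEl C * k := by rw [hk, mul_inv_cancel_left]
  have e2 := congrArg (fun g => mat C g 2 0) e'
  have e1 := congrArg (fun g => mat C g 1 0) e'
  have e0 := congrArg (fun g => mat C g 0 0) e'
  simp [mat_mul, mat_uEl, mat_wEl, uu, ww, Matrix.mul_apply, Fin.sum_univ_three, e.1, e.2] at e0 e1 e2
  rw [← e2, mul_one] at e0 e1
  exact ⟨e1.symm, e0.symm⟩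

/-- The unipotent radical acts regularly on the other points. -/
theorem rad_eq_one {u : G} (hu : u ∈ rad C) {x : Pt C} (hx : x ≠ base C) (hfix : u • x = x) : u = 1 := by
  obtain ⟨g, rfl⟩ := exists_smul_base C x
  obtain ⟨a, b, h, hg⟩ := bruhat C fun hg => hx ((smul_base_eq_iff C).2 hg)
  rw [← (smul_base_eq_smul C).2 hg, ← mul_smul] at hfix
  obtain ⟨a', b', h', rfl⟩ := rad_form C hu
  have hsum : (b' + b - C.σ a' * a) + C.σ (b' + b - C.σ a' * a) + (a' + a) * C.σ (a' + a) = 0 := by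
    simp only [map_add, map_sub, map_mul, C.hinv]
    linear_combination h + h'
  have hm : uEl C a' b' h' * (uEl C a b h * wEl C) = uEl C _ _ hsum * wEl C := mat_inj C (by
    simp only [mat_mul, mat_uEl, ← Matrix.mul_assoc, uu_mul])
  rw [hm, smul_base_eq_smul] at hfix
  obtain ⟨ea, eb⟩ := uEl_w_eq C hsum h hfix
  have ha : a' = 0 := by linear_combination ea
  refine mat_inj C ?_
  rw [mat_uEl, mat_one]
  have hb : b' = 0 := by rw [ha, map_zero] at eb; linear_combination eb
  rw [ha, hb]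
  ext i j
  fin_cases i <;> fin_cases j <;> simp [uu]

theorem card_rad : Nat.card (rad C) = q ^ 3 := by
  conv_rhs => rw [← card_pairs C]
  refine (Nat.card_congr (Equiv.ofBijective
    (fun p : {p : F × F // p.2 + C.σ p.2 + p.1 * C.σ p.1 = 0} =>
      (⟨uEl C p.1.1 p.1.2 p.2, uEl_mem_rad C p.2⟩ : rad C)) ⟨?_, ?_⟩)).symm
  · rintro ⟨⟨a, b⟩, hp⟩ ⟨⟨a', b'⟩, hp'⟩ e
    have e' : mat C (uEl C a b hp) = mat C (uEl C a' b' hp') := congrArg (fun g : rad C => mat C (g : G)) e
    rw [mat_uEl, mat_uEl] at e'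
    have ea := congrFun (congrFun e' 1) 2
    have eb := congrFun (congrFun e' 0) 2
    simp [uu] at ea eb
    subst ea eb
    rfl
  · rintro ⟨g, hg⟩
    obtain ⟨a, b, h, rfl⟩ := rad_form C hg
    exact ⟨⟨(a, b), h⟩, rfl⟩

theorem card_pt : Nat.card (Pt C) = q ^ 3 + 1 := by
  classical
  rw [← card_rad C, ← Finite.card_option]
  refine (Nat.card_congr (Equiv.ofBijective
    (fun o : Option (rad C) => o.elim (base C) fun u => ((u : G) * wEl C) • base C) ⟨?_, ?_⟩)).symm
  · have hne : ∀ u : rad C, ((u : G) * wEl C) • base C ≠ base C := fun u h => by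
      rw [smul_base_eq_iff, Subgroup.mul_mem_cancel_left _ u.2.1] at h
      exact wEl_not_mem C h
    rintro (_ | u) (_ | v) e <;> simp only [Option.elim] at e
    · rfl
    · exact absurd e.symm (hne v)
    · exact absurd e (hne u)
    · obtain ⟨a, b, h, hu⟩ := rad_form C u.2
      obtain ⟨a', b', h', hv⟩ := rad_form C v.2
      rw [hu, hv, smul_base_eq_smul] at e
      obtain ⟨rfl, rfl⟩ := uEl_w_eq C h h' e
      exact congrArg some (Subtype.ext (hu.trans hv.symm))
  · intro x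
    obtain ⟨g, rfl⟩ := exists_smul_base C x
    by_cases hg : g ∈ borel C
    · exact ⟨none, ((smul_base_eq_iff C).2 hg).symm⟩
    · obtain ⟨a, b, h, hb⟩ := bruhat C hg
      exact ⟨some ⟨uEl C a b h, uEl_mem_rad C h⟩, (smul_base_eq_smul C).2 hb⟩

theorem index_borel : (borel C).index = q ^ 3 + 1 := card_pt C

theorem lam_ne_zero (g : borel C) : lam C g ≠ 0 := fun h => by
  have e := map_mul (lam C) g g⁻¹
  rw [mul_inv_cancel, map_one, h, zero_mul] at e
  exact one_ne_zero e

theorem lam_dEl {l : F} (hl : l ≠ 0) : mat C (dEl C l hl) 0 0 = l := by simp [mat_dEl, dd]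

/-- Elements of the stabiliser are a unipotent element times an element of the torus. -/
theorem borel_decomp {g : G} (hg : g ∈ borel C) :
    g * (dEl C (mat C g 0 0) (lam_ne_zero C ⟨g, hg⟩))⁻¹ ∈ rad C := by
  obtain ⟨a, b, l, hl, h, e, el'⟩ := borel_form C hg
  subst el'
  nth_rewrite 1 [e]
  rw [mul_inv_cancel_right]
  exact uEl_mem_rad C h

theorem card_borel : Nat.card (borel C) = q ^ 3 * (q ^ 2 - 1) := by
  rw [← card_rad C, ← card_F C, ← Nat.card_units F, ← Nat.card_prod]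
  refine (Nat.card_congr (Equiv.ofBijective
    (fun p : rad C × Fˣ => (⟨(p.1 : G) * dEl C p.2 p.2.ne_zero, mul_mem p.1.2.1 (dEl_mem C _)⟩ : borel C))
    ⟨?_, ?_⟩)).symm
  · rintro ⟨u, l⟩ ⟨u', l'⟩ e
    have e1 : (u : G) * dEl C l l.ne_zero = (u' : G) * dEl C l' l'.ne_zero := congrArg Subtype.val e
    obtain ⟨a, b, h, hu⟩ := rad_form C u.2
    obtain ⟨a', b', h', hu'⟩ := rad_form C u'.2
    rw [hu, hu'] at e1
    obtain ⟨rfl, rfl, hl⟩ := form_inj C l.ne_zero l'.ne_zero h h' e1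
    obtain rfl := Units.ext hl
    exact Prod.ext (Subtype.ext (hu.trans hu'.symm)) rfl
  · rintro ⟨g, hg⟩
    exact ⟨(⟨_, borel_decomp C hg⟩, Units.mk0 _ (lam_ne_zero C ⟨g, hg⟩)),
      Subtype.ext (inv_mul_cancel_right _ _)⟩

include C in
theorem card_group : Nat.card G = (q ^ 3 + 1) * (q ^ 3 * (q ^ 2 - 1)) := by
  rw [← card_borel C, ← index_borel C, mul_comm, Subgroup.card_mul_index]

/-- An involution fixes a point. -/
theorem exists_fixed_of_inv {g : G} (hg : g * g = 1) :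
    ∃ x : Pt C, g • x = x := by
  by_cases hb : g ∈ borel C
  · exact ⟨base C, (smul_base_eq_iff C).2 hb⟩
  obtain ⟨M, hM⟩ : ∃ M : M3, M = mat C g := ⟨_, rfl⟩
  have hMM : M * M = 1 := by rw [hM, ← mat_mul, hg, mat_one]
  have hiso : ∀ u v, herm C (M *ᵥ u) (M *ᵥ v) = herm C u v := hM ▸ herm_mulVec C g
  have hMv : ∀ v, M *ᵥ (M *ᵥ v) = v := fun v => by rw [Matrix.mulVec_mulVec, hMM, Matrix.one_mulVec]
  obtain ⟨e, he⟩ : ∃ e : Fin 3 → F, e = Pi.single 0 1 := ⟨_, rfl⟩
  obtain ⟨c, hc⟩ : ∃ c : Fin 3 → F, c = M *ᵥ e := ⟨_, rfl⟩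
  have hMc : M *ᵥ c = e := by rw [hc, hMv]
  have hcc : herm C c c = 0 := by rw [hc, hiso, he]; simp [herm]
  have hce := hiso e c
  rw [← hc, hMc] at hce
  have hc2 : c 2 ≠ 0 := by
    intro h2
    refine hb ((mem_borel C).2 ⟨?_, ?_⟩)
    · have h1 : c 1 * C.σ (c 1) = 0 := by simpa [herm, h2] using hcc
      have : c 1 = 0 := (mul_eq_zero.1 h1).elim id (map_eq_zero C.σ).1
      simpa [hc, hM, he] using this
    · simpa [hc, hM, he] using h2
  have hfx : C.σ (c 2) = c 2 := by simpa [herm, he] using hce.symm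
  obtain ⟨w, hw⟩ : ∃ w : Fin 3 → F, w = ![-(C.σ (c 1) / C.σ (c 2)), 1, 0] := ⟨_, rfl⟩
  have hσc : C.σ (c 2) ≠ 0 := (map_ne_zero C.σ).2 hc2
  have hwe : herm C w e = 0 := by simp [herm, hw, he]
  have hwc : herm C w c = 0 := by simp [herm, hw]; field_simp; ring
  have hww : herm C w w = 1 := by simp [herm, hw]
  have h2 : (M *ᵥ w) 2 = 0 := by
    have := hiso w c
    rw [hMc, hwc] at this
    simpa [herm, he] using this
  have h0 : (M *ᵥ w) 0 = (M *ᵥ w) 1 * w 0 := by
    have := hiso w e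
    rw [← hc, hwe] at this
    simp only [herm, h2, zero_mul, add_zero] at this
    rw [show w 0 = -(C.σ (c 1) / C.σ (c 2)) by simp [hw]]
    field_simp
    linear_combination this
  obtain ⟨l, hl⟩ : ∃ l, l = (M *ᵥ w) 1 := ⟨_, rfl⟩
  have hMw : M *ᵥ w = l • w := by
    funext i
    fin_cases i
    · simpa [hl] using h0
    · simp [hl, hw]
    · simp only [Pi.smul_apply, smul_eq_mul]
      rw [show w (⟨2, by norm_num⟩ : Fin 3) = 0 by simp [hw], mul_zero]
      exact h2
  have hl2 : l * l = 1 := by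
    have := congrFun (hMv w) 1
    rw [hMw, Matrix.mulVec_smul, hMw] at this
    simpa [hw, mul_assoc] using this
  obtain ⟨k, hk⟩ := exists_norm C.hne C.hinv (x := -(l * (2 * c 2))) (by
    rcases mul_self_eq_one_iff.1 hl2 with rfl | rfl <;> simp [hfx, map_ofNat])
  obtain ⟨v, hv⟩ : ∃ v : Fin 3 → F, v = e + l • c + k • w := ⟨_, rfl⟩
  have hlσ : C.σ l = l := by rcases mul_self_eq_one_iff.1 hl2 with rfl | rfl <;> simp
  have hMv' : M *ᵥ v = l • v := by
    rw [hv, Matrix.mulVec_add, Matrix.mulVec_add, Matrix.mulVec_smul, Matrix.mulVec_smul, ← hc, hMc, hMw,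
      smul_add, smul_add, smul_smul l l c, hl2, one_smul, smul_comm k l w]
    abel
  have hv2 : v 2 ≠ 0 := by
    rw [hv]
    simp [he, hw, hc2]
    intro h
    rw [h, zero_mul] at hl2
    exact zero_ne_one hl2
  have hvv : herm C v v = 0 := by
    have hw1 : w 1 = 1 := by simp [hw]
    have hw2 : w 2 = 0 := by simp [hw]
    have hw0 : w 0 * c 2 = -C.σ (c 1) := by
      rw [show w 0 = -(C.σ (c 1) / C.σ (c 2)) by simp [hw], hfx, neg_mul, div_mul_cancel₀ _ hc2]
    have hw0' : C.σ (w 0) * c 2 = -c 1 := by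
      rw [← hfx, ← map_mul, hw0, map_neg, C.hinv]
    have e0 : v 0 = 1 + l * c 0 + k * w 0 := by simp [hv, he]
    have e1 : v 1 = l * c 1 + k := by simp [hv, he, hw1]
    have e2 : v 2 = l * c 2 := by simp [hv, he, hw2]
    simp only [herm] at hcc
    simp only [herm, e0, e1, e2, map_add, map_mul, map_one, hlσ, hfx]
    rw [hfx] at hcc
    linear_combination (l * l) * hcc + hk + (l * k) * hw0 + (l * C.σ k) * hw0'
  obtain ⟨h, t, ht, hh, hcol⟩ := exists_col C v hvv hv2
  refine ⟨h • base C, ?_⟩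
  rw [← mul_smul, smul_base_eq_smul]
  have hgh : ∀ i, col C (g * h) i = l * col C h i := fun i => by
    rw [col_mul, ← hM, hcol, hcol, hcol, hcol]
    have := congrFun hMv' i
    simp [Matrix.mulVec, dotProduct, Fin.sum_univ_three] at this
    linear_combination t * this
  obtain ⟨x, hx⟩ : ∃ x, x = (g * h)⁻¹ * h := ⟨_, rfl⟩
  rw [← hx]
  have hx' : h⁻¹ * (g * h) = x⁻¹ := by rw [hx]; group
  refine (inv_mem_iff (x := x)).1 ((mem_borel C).2 ?_)
  rw [← hx']
  have key : ∀ i, col C (h⁻¹ * (g * h)) i = l * col C 1 i := fun i => by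
    rw [← inv_mul_cancel h, col_mul, col_mul C h⁻¹ h, hgh, hgh, hgh]
    ring
  exact ⟨(key 1).trans (by simp [col, mat_one]), (key 2).trans (by simp [col, mat_one])⟩

end Cfsg.Agent.PSU3Index
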