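import Cfsg.Agent.Lib.PSU3Index.Homology
import Cfsg.Agent.Lib.Classical.DicksonProper

/-!
The possible stabilisers of a point in a subgroup of small index.
-/

set_option autoImplicit false
set_option linter.unusedSectionVars false
set_option linter.style.haveILetI false

namespace Cfsg.Agent.PSU3Index

open Matrix Hermitian

variable {F : Type*} [Field F] [Fintype F] {q : ℕ}

set_option quotPrecheck false in
local notation "G" => ↥(Cfsg.SU 3 F q)
local notation "P2" => Matrix.ProjectiveSpecialLinearGroup (Fin 2) F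
local notation "prH" => PSL2Inv.pr (F := F)

/-- A power of `p` is not `-1` modulo a larger one. -/
theorem not_dvd_sq_sub_one {p a b : ℕ} (hp : 2 ≤ p) (hb : b < a) (hb0 : 0 < b) :
    ¬ (p ^ a + 1 ∣ (p ^ b) ^ 2 - 1) := by
  intro h
  have hb1 : p ^ b < p ^ a := Nat.pow_lt_pow_right hp hb
  have hB2 : 2 ≤ p ^ b := le_trans hp (Nat.le_self_pow hb0.ne' p)
  have hsq : 1 < (p ^ b) ^ 2 := by nlinarith
  have hle := Nat.le_of_dvd (by omega) h
  have hba : a ≤ 2 * b := by
    by_contra hc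
    have : (p ^ b) ^ 2 ≤ p ^ a := by
      rw [← pow_mul, mul_comm]; exact Nat.pow_le_pow_right (by omega) (by omega)
    omega
  have e : (p ^ b) ^ 2 = p ^ (2 * b - a) * p ^ a := by
    rw [← pow_mul, ← pow_add]; congr 1; omega
  have hlt : p ^ (2 * b - a) < p ^ a := Nat.pow_lt_pow_right hp (by omega)
  have hpos : 0 < p ^ (2 * b - a) := pow_pos (by omega) _
  -- `(p^b)² - 1 + (p^(2b-a) + 1)` is a multiple of `p^a + 1`
  have h2 : p ^ a + 1 ∣ ((p ^ b) ^ 2 - 1) + (p ^ (2 * b - a) + 1) := by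
    refine ⟨p ^ (2 * b - a), ?_⟩
    rw [e] at hsq ⊢
    have : (p ^ a + 1) * p ^ (2 * b - a) = p ^ (2 * b - a) * p ^ a + p ^ (2 * b - a) := by ring
    omega
  have h3 := (Nat.dvd_add_right h).1 h2
  have := Nat.le_of_dvd (by omega) h3
  have : p ^ (2 * b - a) + 1 < p ^ a + 1 := by omega
  omega

theorem arith_full {n : ℕ} (h3 : 3 ≤ n) (hn3 : n ≠ 3) (h5 : n ≠ 5)
    (h : (n + 1) * (n - 1) = 12 ∨ (n + 1) * (n - 1) = 24 ∨ (n + 1) * (n - 1) = 60) : False := by
  have hn : n ≤ 8 := by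
    by_contra hh
    have : 10 * 8 ≤ (n + 1) * (n - 1) := Nat.mul_le_mul (by omega) (by omega)
    omega
  interval_cases n <;> omega

theorem arith_line {n A t6 tM : ℕ} (h3 : 3 ≤ n) (h5 : n ≠ 5) (h11 : n ≠ 11) (h6 : n + 1 = 6 * t6)
    (htM2 : tM = 1 ∨ tM = 2) (htM : n - 1 = 2 * A * tM)
    (h : A ≤ 2 ∨ (n + 1) * A = 12 ∨ (n + 1) * A = 24 ∨ (n + 1) * A = 60) : False := by
  rcases h with h | h
  · rcases htM2 with rfl | rfl <;> omega
  · have hA : A ≤ 10 := by
      have : 6 * A ≤ (n + 1) * A := Nat.mul_le_mul_right _ (by omega)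
      omega
    have hn : n ≤ 41 := by rcases htM2 with rfl | rfl <;> omega
    interval_cases A <;> rcases htM2 with rfl | rfl <;> omega

theorem card_domRestrict_eq {A B : Type*} [Group A] [Group B] [Finite A] (f : A →* B) (L : Subgroup A) :
    Nat.card (f.domRestrict L).ker * Nat.card (L.map f) = Nat.card L := by
  rw [← f.domRestrict_range L, ← Subgroup.index_ker]
  exact Subgroup.card_mul_index _

variable (C : Ctx F q)

theorem units_mem_fixed_iff {x : Fˣ} : C.σ (x : F) = x ↔ x ^ (q - 1) = 1 := by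
  have hq := q_two_le C
  rw [C.hσ, ← Units.val_pow_eq_pow_val, Units.val_inj]
  conv_lhs => rw [show q = q - 1 + 1 by omega, pow_succ]
  exact mul_eq_right

theorem card_units_fixed_le {A : Subgroup Fˣ} (h : ∀ x ∈ A, C.σ (x : F) = x) :
    Nat.card A ∣ q - 1 := by
  have e : Nat.card A = orderOf (Classical.choose (IsCyclic.exists_generator (α := A))) :=
    (orderOf_eq_card_of_forall_mem_zpowers (Classical.choose_spec (IsCyclic.exists_generator (α := A)))).symm
  rw [e]
  refine orderOf_dvd_of_pow_eq_one (Subtype.ext ?_)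
  rw [Subgroup.coe_pow, Subgroup.coe_one]
  exact (units_mem_fixed_iff C).1 (h _ (Subtype.coe_prop _))

theorem card_le_three {A : Subgroup Fˣ} (h : ∀ x ∈ A, (x : F) ^ 3 = 1) : Nat.card A = 1 ∨ Nat.card A = 3 := by
  obtain ⟨g, hg⟩ := IsCyclic.exists_generator (α := A)
  rw [← orderOf_eq_card_of_forall_mem_zpowers hg]
  have : orderOf g ∣ 3 := orderOf_dvd_of_pow_eq_one (Subtype.ext (Units.ext (by
    rw [Subgroup.coe_pow, Units.val_pow_eq_pow_val, Subgroup.coe_one, Units.val_one]
    exact h _ g.2)))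
  exact (Nat.dvd_prime Nat.prime_three).1 this

include C in
theorem card_ker_nu : Nat.card (nuHom C).ker = q + 1 := by
  rw [← card_norm_one C]
  refine Nat.card_congr
    { toFun := fun x => ⟨((x : Fˣ) : F), by
        have := congrArg Units.val (MonoidHom.mem_ker.1 x.2)
        exact this⟩
      invFun := fun a => ⟨Units.mk0 a.1 (left_ne_zero_of_mul_eq_one a.2), Units.ext a.2⟩
      left_inv := fun x => Subtype.ext (Units.ext rfl)
      right_inv := fun a => rfl }

theorem card_W_pow (C : Ctx F q) {p a : ℕ} (hp : p.Prime) (hqa : q = p ^ a) (W : AddSubgroup F) :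
    ∃ j, Nat.card W = p ^ j := by
  have h : Nat.card W ∣ p ^ (a * 2) := by
    rw [pow_mul, ← hqa, ← card_F C]
    exact AddSubgroup.card_addSubgroup_dvd_card W
  obtain ⟨j, -, hj⟩ := (Nat.dvd_prime_pow hp).1 h
  exact ⟨j, hj⟩

namespace Sub

variable {C} (S : Sub C)

/-- The image of the torus on the centre. -/
def A : Subgroup Fˣ := S.L.map (nuHom C)

/-- The image of the torus on the quotient. -/
def M : Subgroup Fˣ := S.L.map (muHom C)

theorem A_fixed {x : Fˣ} (hx : x ∈ S.A) : C.σ (x : F) = x := by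
  obtain ⟨l, -, rfl⟩ := hx
  rw [nuHom_val, nu, map_mul, C.hinv, mul_comm]

theorem card_A_dvd : Nat.card S.A ∣ q - 1 := card_units_fixed_le C fun _ h => S.A_fixed h

theorem card_L_dvd : Nat.card S.L ∣ (q + 1) * Nat.card S.A := by
  rw [← card_domRestrict_eq (nuHom C) S.L, ← card_ker_nu C]
  refine mul_dvd_mul ?_ dvd_rfl
  rw [← Subgroup.card_map_of_injective (K := ((nuHom C).domRestrict S.L).ker) S.L.subtype_injective]
  refine Subgroup.card_dvd_of_le ?_
  rintro _ ⟨x, hx, rfl⟩
  exact hx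

theorem card_L_M : ∃ k, (k = 1 ∨ k = 3) ∧ k * Nat.card S.M = Nat.card S.L := by
  refine ⟨Nat.card ((muHom C).domRestrict S.L).ker, ?_, card_domRestrict_eq (muHom C) S.L⟩
  rw [← Subgroup.card_map_of_injective (K := ((muHom C).domRestrict S.L).ker) S.L.subtype_injective]
  refine card_le_three ?_
  rintro _ ⟨x, hx, rfl⟩
  have h1 : mu C ((x : Fˣ) : F) = 1 := congrArg Units.val (MonoidHom.mem_ker.1 hx)
  have h2 := mu_of_nu_one C (x : Fˣ).ne_zero (nu_eq_one_of_mu C h1)
  rw [mu, h2] at h1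
  show ((x : Fˣ) : F) ^ 3 = 1
  have hx0 := (x : Fˣ).ne_zero
  field_simp at h1
  linear_combination -h1

theorem card_Z0_dvd : Nat.card S.Z0 ∣ q := (AddSubgroup.card_dvd_of_le S.Z0_le).trans (dvd_of_eq (card_skew C))

theorem card_Z0_lt (hlt : S.Z0 < skew C) : Nat.card S.Z0 < q := by
  refine lt_of_le_of_ne (Nat.le_of_dvd (by have := q_two_le C; omega) S.card_Z0_dvd) fun e => hlt.ne ?_
  exact AddSubgroup.eq_of_le_of_card_ge hlt.le (by rw [card_skew C, e])

theorem card_W_lt_of_two (hp : (2 : F) = 0) (hlt : S.Z0 < skew C) : Nat.card S.W < q :=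
  card_lt_of_norm C hp hlt fun _ ha => S.norm_mem hp ha

/-- In odd characteristic there is an involution in the stabiliser. -/
theorem neg_one_mem {p a : ℕ} (hp : p.Prime) (hqa : q = p ^ a) (hodd : p ≠ 2) : (-1 : Fˣ) ∈ S.L := by
  haveI := Fact.mk hp
  haveI : Fact (Nat.Prime 2) := ⟨Nat.prime_two⟩
  have hq : Odd q := hqa ▸ (hp.odd_of_ne_two hodd).pow
  obtain ⟨t, ht⟩ := exists_prime_orderOf_dvd_card' 2 (show 2 ∣ Nat.card S.H by
    rw [S.card_H]
    exact (even_iff_two_dvd.1 (hq.pow.add_one)).mul_right _)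
  have ht2 : (t : G) * (t : G) = 1 := by
    have := pow_orderOf_eq_one t
    rw [ht, sq] at this
    exact congrArg Subtype.val this
  obtain ⟨x, hx⟩ := exists_fixed_of_inv C ht2
  obtain ⟨g, rfl⟩ := exists_smul_base C x
  obtain ⟨h, hh, hb⟩ := S.trans g
  obtain ⟨s, hs⟩ : ∃ s, s = h⁻¹ * (t : G) * h := ⟨_, rfl⟩
  have hsB : s ∈ borel C := by
    rw [← mul_smul, smul_base_eq_smul] at hx
    have := inv_mem (mul_mem (mul_mem hb hx) (inv_mem hb))
    rwa [show (h⁻¹ * g * (((t : G) * g)⁻¹ * g) * (h⁻¹ * g)⁻¹)⁻¹ = h⁻¹ * (t : G) * h by group, ← hs] at this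
  have hsH : s ∈ S.H := hs ▸ S.H.mul_mem (S.H.mul_mem (S.H.inv_mem hh) t.2) hh
  have hs2 : s * s = 1 := by
    rw [hs, show h⁻¹ * (t : G) * h * (h⁻¹ * (t : G) * h) = h⁻¹ * ((t : G) * (t : G)) * h by group, ht2]
    group
  have hl : mat C s 0 0 * mat C s 0 0 = 1 := by
    have := map_mul (lam C) ⟨s, hsB⟩ ⟨s, hsB⟩
    rw [show (⟨s, hsB⟩ : borel C) * ⟨s, hsB⟩ = 1 from Subtype.ext hs2, map_one] at this
    exact this.symm
  rcases mul_self_eq_one_iff.1 hl with h1 | h1
  · exfalso
    have hcop : Nat.Coprime 2 q := (Nat.coprime_primes Nat.prime_two hp).2 (Ne.symm hodd) |>.pow_right a |> (hqa ▸ ·)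
    have := pow_eq_one_of_rad C (x := s) ⟨hsB, h1⟩ hcop (by rw [sq, hs2])
    rw [hs, show h⁻¹ * (t : G) * h = h⁻¹ * (t : G) * h⁻¹⁻¹ by rw [inv_inv], conj_eq_one_iff] at this
    rw [show t = 1 from Subtype.ext this, orderOf_one] at ht
    exact absurd ht (by norm_num)
  · have hT := S.torus s hsB hsH
    have e : dEl C (mat C s 0 0) (lam_ne_zero C ⟨s, hsB⟩) = dEl C ((-1 : Fˣ) : F) (Units.ne_zero _) :=
      dEl_congr C (h1.trans (by rw [Units.val_neg, Units.val_one]))
    rw [e] at hT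
    exact hT

/-- There is a homology. -/
theorem exists_hom (hq : 3 ≤ q) {p a : ℕ} (hp : p.Prime) (hqa : q = p ^ a) [CharP F p] (hlt : S.Z0 < skew C)
    (hlarge : q ^ 2 - 1 ≤ Nat.card S.W * Nat.card S.Z0 * Nat.card S.L) : Nonempty (Hom C S) := by
  classical
  by_cases hodd : p = 2
  · subst hodd
    have h2 : (2 : F) = 0 := CharP.cast_eq_zero F 2
    by_contra hno
    have hl3 : ∀ l ∈ S.L, nu C ((l : Fˣ) : F) = 1 → (l : F) ^ 3 = 1 := fun l hl hn => by
      by_contra h3
      exact hno ⟨⟨l, hl, hn, h3⟩⟩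
    -- the torus is small
    have hk : Nat.card S.L ≤ 3 * Nat.card S.A := by
      rw [← card_domRestrict_eq (nuHom C) S.L]
      refine Nat.mul_le_mul_right _ ?_
      rw [← Subgroup.card_map_of_injective (K := ((nuHom C).domRestrict S.L).ker) S.L.subtype_injective]
      rcases card_le_three (A := ((nuHom C).domRestrict S.L).ker.map S.L.subtype) (by
        rintro _ ⟨x, hx, rfl⟩
        exact hl3 _ x.2 (congrArg Units.val (MonoidHom.mem_ker.1 hx))) with e | e <;> omega
    -- it acts through the fixed field on the quotient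
    have hMfix : ∀ l ∈ S.L, C.σ (mu C ((l : Fˣ) : F)) = mu C (l : F) := by
      intro l hl
      obtain ⟨l', hl', hll⟩ : ∃ l' ∈ S.L, (l' : Fˣ) = l ^ q * l⁻¹ := ⟨_, S.L.mul_mem (S.L.pow_mem hl q) (S.L.inv_mem hl), rfl⟩
      have hmu : mu C (l' : F) = C.σ (mu C (l : F)) / mu C (l : F) := by
        rw [← muHom_val, hll, map_mul, map_pow, map_inv, C.hσ (mu C _), Units.val_mul, Units.val_pow_eq_pow_val,
          Units.val_inv_eq_inv_val, muHom_val, div_eq_mul_inv]
      have hm0 : mu C (l : F) ≠ 0 := muHom_val C l ▸ (muHom C l).ne_zero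
      have hσm0 : C.σ (mu C (l : F)) ≠ 0 := (map_ne_zero C.σ).2 hm0
      have hn : nu C (l' : F) = 1 := by
        rw [← mu_nu, hmu, map_div₀, C.hinv]
        field_simp
      have h3 := hl3 l' hl' hn
      have : mu C (l' : F) = 1 := by
        rw [mu, mu_of_nu_one C l'.ne_zero hn]
        have := l'.ne_zero
        field_simp
        linear_combination -h3
      rw [hmu] at this
      exact (div_eq_one_iff_eq hm0).1 this
    let E : Subfield F := fixed C.σ ⊓ stabField S.W ⊓ stabField S.Z0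
    have hAE : ∀ x ∈ S.A, (x : F) ∈ E := by
      intro x hx
      have hfx := S.A_fixed hx
      obtain ⟨l, hl, rfl⟩ := hx
      refine ⟨⟨hfx, ?_⟩, ?_⟩
      · intro w hw
        rw [nuHom_val, ← mu_nu, hMfix l hl, mul_assoc]
        exact S.mu_mul_mem hl (S.mu_mul_mem hl hw)
      · intro w hw
        exact S.nu_mul_mem hl hw
    obtain ⟨Q, hQ⟩ : ∃ Q, Q = Nat.card E := ⟨_, rfl⟩
    have hQA : Nat.card S.A ≤ Q - 1 := by
      rw [hQ, ← Nat.card_units]
      refine Nat.card_le_card_of_injective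
        (fun x : S.A => Units.mk0 (⟨((x : Fˣ) : F), hAE _ x.2⟩ : E) (fun e => (x : Fˣ).ne_zero (congrArg Subtype.val e)))
        fun x y e => Subtype.ext (Units.ext (congrArg (fun u : Eˣ => ((u : E) : F)) e))
    have hQ2 : 2 ≤ Q := hQ ▸ Finite.one_lt_card
    have hzQ : Nat.card S.Z0 * Q ≤ q := by
      rw [hQ, mul_comm]
      exact (card_mul_le (E := (E : Set F)) hlt (fun e he w hw => he.2 w hw)
        (fun e he v hv => mul_mem_skew C he.1.1 hv)).trans (card_skew C).le
    have hwQ : Nat.card S.W * Q ≤ q := by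
      obtain ⟨k, hk'⟩ := exists_pow E S.W fun e he w hw => he.1.2 w hw
      obtain ⟨m, hm'⟩ := exists_pow E (fixed C.σ).toAddSubgroup fun e he w hw => (fixed C.σ).mul_mem he.1.1 hw
      have hm'' : q = Q ^ m := by rw [← C.hq, hQ]; exact hm'
      have hwlt := S.card_W_lt_of_two h2 hlt
      rw [hk', ← hQ, hm''] at hwlt
      rw [hk', ← hQ, hm'', ← pow_succ]
      exact Nat.pow_le_pow_right (by omega) ((Nat.pow_lt_pow_iff_right (by omega)).1 hwlt)
    have h1 : (q ^ 2 - 1) * Q ^ 2 ≤ q * q * (3 * (Q - 1)) := by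
      calc (q ^ 2 - 1) * Q ^ 2 ≤ Nat.card S.W * Nat.card S.Z0 * Nat.card S.L * Q ^ 2 := Nat.mul_le_mul_right _ hlarge
        _ = (Nat.card S.W * Q) * (Nat.card S.Z0 * Q) * Nat.card S.L := by ring
        _ ≤ q * q * (3 * (Q - 1)) := Nat.mul_le_mul (Nat.mul_le_mul hwQ hzQ) (hk.trans (Nat.mul_le_mul_left 3 hQA))
    obtain ⟨r, rfl⟩ : ∃ r, Q = r + 2 := ⟨Q - 2, by omega⟩
    obtain ⟨q2, hq2⟩ : ∃ q2, q2 = q ^ 2 - 1 := ⟨_, rfl⟩
    have hq9 : 8 ≤ q2 := by
      have : 3 ^ 2 ≤ q ^ 2 := Nat.pow_le_pow_left hq 2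
      omega
    rw [← hq2, ← sq, show q ^ 2 = q2 + 1 by omega, show r + 2 - 1 = r + 1 by omega] at h1
    nlinarith [Nat.zero_le (r * r * q2), Nat.zero_le (r * q2)]
  · exact ⟨⟨-1, S.neg_one_mem hp hqa hodd, by simp [nu], by
      intro h
      rw [Units.val_neg, Units.val_one] at h
      haveI := Fact.mk hp
      refine hodd ?_
      have h2 : (2 : F) = 0 := by linear_combination -h
      have h3 : p ∣ 2 := (CharP.cast_eq_zero_iff F p 2).1 (by exact_mod_cast h2)
      exact (Nat.prime_dvd_prime_iff_eq hp Nat.prime_two).1 h3⟩⟩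

end Sub

namespace Hom

variable {C} {S : Sub C} (D : Hom C S)

theorem KT_eq_bot_of_cyclic (h : IsCyclic D.K) : D.KT = ⊥ := by
  haveI := h
  refine D.core le_rfl fun k hk n hn => ?_
  letI := IsCyclic.commGroup (α := D.K)
  have hc : (⟨k, hk⟩ : D.K) * ⟨n, D.KT_le hn⟩ = ⟨n, D.KT_le hn⟩ * ⟨k, hk⟩ := mul_comm _ _
  have hc' : k * n = n * k := congrArg Subtype.val hc
  rw [hc', mul_inv_cancel_right]
  exact hn

theorem card_KT_le_two {k : ℕ} (e : D.K ≃* DihedralGroup k) : Nat.card D.KT ≤ 2 := by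
  have hr : ∀ t : P2, ∀ ht : t ∈ D.KT, ∀ i, e ⟨t, D.KT_le ht⟩ = DihedralGroup.r i → t = 1 := by
    intro t ht i hi
    have hz : Subgroup.zpowers t = ⊥ := by
      refine D.core ((Subgroup.zpowers_le).2 ht) ?_
      intro g hg n hn
      obtain ⟨j, rfl⟩ := hn
      have hcases : (⟨g, hg⟩ : D.K) * ⟨t, D.KT_le ht⟩ * ⟨g, hg⟩⁻¹ = ⟨t, D.KT_le ht⟩ ∨
          (⟨g, hg⟩ : D.K) * ⟨t, D.KT_le ht⟩ * ⟨g, hg⟩⁻¹ = (⟨t, D.KT_le ht⟩ : D.K)⁻¹ := by
        rcases hgv : e ⟨g, hg⟩ with m | m
        · left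
          refine e.injective ?_
          rw [map_mul, map_mul, map_inv, hgv, hi]
          simp
        · right
          refine e.injective ?_
          rw [map_mul, map_mul, map_inv, map_inv, hgv, hi]
          simp
      show g * t ^ j * g⁻¹ ∈ Subgroup.zpowers t
      rw [← conj_zpow]
      rcases hcases with hc | hc
      · rw [show g * t * g⁻¹ = t from congrArg Subtype.val hc]
        exact Subgroup.zpow_mem _ (Subgroup.mem_zpowers t) _
      · rw [show g * t * g⁻¹ = t⁻¹ from congrArg Subtype.val hc]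
        exact Subgroup.zpow_mem _ (Subgroup.inv_mem _ (Subgroup.mem_zpowers t)) _
    exact Subgroup.zpowers_eq_bot.1 hz
  have hpair : ∀ t u : D.KT, t ≠ 1 → u ≠ 1 → t * u = 1 := by
    intro t u ht hu
    rcases h1 : e ⟨t, D.KT_le t.2⟩ with i | i
    · exact absurd (Subtype.ext (hr _ t.2 i h1)) ht
    rcases h2 : e ⟨u, D.KT_le u.2⟩ with m | m
    · exact absurd (Subtype.ext (hr _ u.2 m h2)) hu
    refine Subtype.ext (hr _ (t * u).2 (m - i) ?_)
    rw [show (⟨((t * u : D.KT) : P2), D.KT_le (t * u).2⟩ : D.K) = ⟨t, D.KT_le t.2⟩ * ⟨u, D.KT_le u.2⟩ from rfl,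
      map_mul, h1, h2, DihedralGroup.sr_mul_sr]
  classical
  haveI := Fintype.ofFinite D.KT
  by_cases hne : ∃ t : D.KT, t ≠ 1
  · obtain ⟨t, ht⟩ := hne
    rw [Nat.card_eq_fintype_card]
    refine (Finset.card_le_card (t := ({1, t} : Finset D.KT)) fun u _ => ?_).trans Finset.card_le_two
    simp only [Finset.mem_insert, Finset.mem_singleton]
    by_cases hu : u = 1
    · exact Or.inl hu
    · right
      have h1 := hpair t u ht hu
      have h2 := hpair t t ht ht
      exact mul_left_cancel (h1.trans h2.symm)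
  · push Not at hne
    haveI : Subsingleton D.KT := ⟨fun a b => (hne a).trans (hne b).symm⟩
    exact (Finite.card_le_one_iff_subsingleton.2 this).trans (by norm_num)

theorem card_K_pos : 0 < Nat.card S.Z0 * Nat.card S.A := Nat.mul_pos Nat.card_pos Nat.card_pos

theorem not_dvd {p a : ℕ} (hp : p.Prime) (ha : 0 < a) (hqa : q = p ^ a) :
    ¬ p ∣ (q + 1) * Nat.card S.A := by
  intro h
  have hpq : p ∣ q := hqa ▸ dvd_pow_self p ha.ne'
  rcases hp.dvd_mul.1 h with h1 | h1
  · exact hp.one_lt.ne' (Nat.dvd_one.1 ((Nat.dvd_add_right hpq).1 h1))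
  · have h2 := h1.trans S.card_A_dvd
    have h3 : p ∣ q - (q - 1) := Nat.dvd_sub hpq h2
    rw [Nat.sub_sub_self (show 1 ≤ q by have := q_two_le C; omega)] at h3
    exact hp.one_lt.ne' (Nat.dvd_one.1 h3)

/-- The possibilities with a non-trivial root group. -/
theorem cases_root (D : Hom C S) {p a : ℕ} (hp : p.Prime) (ha : 0 < a) (hqa : q = p ^ a) [CharP F p]
    (hlt : S.Z0 < skew C) (hZ : S.Z0 ≠ ⊥) :
    (Nat.card S.Z0 = 2 ∧ p = 2 ∧ Nat.card S.A = 1) ∨ (q = 9 ∧ Nat.card S.Z0 = 3 ∧ Nat.card S.A = 2) := by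
  haveI := Fact.mk hp
  have hK : Nat.card D.K = (q + 1) * (Nat.card S.Z0 * Nat.card S.A) := D.card_K
  have hKT : Nat.card D.KT = Nat.card S.Z0 * Nat.card S.A := D.card_KT
  obtain ⟨j, -, hj⟩ := (Nat.dvd_prime_pow hp).1 (S.card_Z0_dvd.trans (dvd_of_eq hqa))
  have hzlt := S.card_Z0_lt hlt
  have hj0 : 0 < j := by
    rcases Nat.eq_zero_or_pos j with rfl | h
    · exact absurd (AddSubgroup.eq_bot_of_card_eq _ hj) hZ
    · exact h
  have hz2 : 2 ≤ Nat.card S.Z0 := hj ▸ le_trans hp.two_le (Nat.le_self_pow hj0.ne' p)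
  have hpz : p ∣ Nat.card S.Z0 := hj ▸ dvd_pow_self p hj0.ne'
  have hpK : p ∣ Nat.card D.K := by rw [hK]; exact (hpz.mul_right _).mul_left _
  have hA1 : 0 < Nat.card S.A := Nat.card_pos
  rcases Dickson.classify p D.K with ⟨k, -, ⟨hc, -⟩ | ⟨⟨e⟩⟩⟩ | ⟨Sy, hSy⟩ | ⟨h2, h3, ⟨e⟩⟩ | ⟨h2, h3, ⟨e⟩⟩ |
      ⟨h2, h5, ⟨e⟩⟩ | ⟨K0, i1, i2, m, hm, -, he⟩
  · exfalso
    have h1 := D.KT_eq_bot_of_cyclic hc
    rw [h1, Subgroup.card_bot] at hKT
    nlinarith
  · left
    have h1 := D.card_KT_le_two e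
    rw [hKT] at h1
    have hz : Nat.card S.Z0 = 2 := by nlinarith
    refine ⟨hz, ?_, by nlinarith⟩
    rw [hz] at hpz
    exact (Nat.prime_dvd_prime_iff_eq hp Nat.prime_two).1 hpz
  · exfalso
    obtain ⟨N, hN⟩ : ∃ N, N = D.K ⊓ (Sy : Subgroup P2) := ⟨_, rfl⟩
    have hPle : D.KP ≤ (Sy : Subgroup P2) := by
      have hP : IsPGroup p D.KP := IsPGroup.of_card (n := j) (by rw [D.card_KP, hj])
      have hsup : IsPGroup p ↥((Sy : Subgroup P2) ⊔ D.KP) :=
        IsPGroup.to_sup_of_normal_left' Sy.2 hP ((D.KP_le.trans D.KT_le).trans hSy)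
      have := Sy.3 hsup le_sup_left
      rw [← this]
      exact le_sup_right
    have hle : D.KP ≤ N := hN ▸ le_inf (D.KP_le.trans D.KT_le) hPle
    have hNp : IsPGroup p N := hN ▸ Sy.2.to_le inf_le_right
    obtain ⟨i, hi⟩ := IsPGroup.iff_card.1 hNp
    have hNd : Nat.card N ∣ Nat.card D.K := Subgroup.card_dvd_of_le (hN ▸ inf_le_left)
    rw [hK, hi, show (q + 1) * (Nat.card S.Z0 * Nat.card S.A) = Nat.card S.Z0 * ((q + 1) * Nat.card S.A) by ring] at hNd
    have hcop : Nat.Coprime (p ^ i) ((q + 1) * Nat.card S.A) :=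
      ((Nat.Prime.coprime_iff_not_dvd hp).2 (not_dvd hp ha hqa)).pow_left i
    have hzN : Nat.card N ≤ Nat.card S.Z0 := by
      rw [hi]; exact Nat.le_of_dvd Nat.card_pos (hcop.dvd_of_dvd_mul_right hNd)
    have heq : D.KP = N := Subgroup.eq_of_le_of_card_ge hle (by rw [D.card_KP]; exact hzN)
    have hKle : D.K ≤ D.KT := fun g hg => D.normaliser_KP hZ hg fun x hx => by
      rw [heq, hN] at hx ⊢
      exact ⟨D.K.mul_mem (D.K.mul_mem hg hx.1) (D.K.inv_mem hg),
        ((Subgroup.mem_normalizer_iff.1 (hSy hg)) x).1 hx.2⟩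
    have := Subgroup.card_le_of_le hKle
    rw [hK, hKT] at this
    have := q_two_le C
    nlinarith
  · exfalso
    rw [Nat.card_congr e.toEquiv, nat_card_alternatingGroup, Nat.card_fin] at hpK
    norm_num [Nat.factorial] at hpK
    rcases hp.dvd_mul.1 (show p ∣ 4 * 3 from hpK) with h | h
    · exact h2 ((Nat.prime_dvd_prime_iff_eq hp Nat.prime_two).1 (hp.dvd_of_dvd_pow (show p ∣ 2 ^ 2 from h)))
    · exact h3 ((Nat.prime_dvd_prime_iff_eq hp Nat.prime_three).1 h)
  · exfalso
    rw [Nat.card_congr e.toEquiv, Nat.card_perm, Nat.card_fin] at hpK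
    norm_num [Nat.factorial] at hpK
    rcases hp.dvd_mul.1 (show p ∣ 8 * 3 from hpK) with h | h
    · exact h2 ((Nat.prime_dvd_prime_iff_eq hp Nat.prime_two).1 (hp.dvd_of_dvd_pow (show p ∣ 2 ^ 3 from h)))
    · exact h3 ((Nat.prime_dvd_prime_iff_eq hp Nat.prime_three).1 h)
  · right
    have h60 : Nat.card D.K = 60 := by
      rw [Nat.card_congr e.toEquiv, nat_card_alternatingGroup, Nat.card_fin]; rfl
    rw [h60] at hpK
    obtain rfl : p = 3 := by
      rcases hp.dvd_mul.1 (show p ∣ 20 * 3 from hpK) with h | h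
      · rcases hp.dvd_mul.1 (show p ∣ 4 * 5 from h) with h' | h'
        · exact absurd ((Nat.prime_dvd_prime_iff_eq hp Nat.prime_two).1 (hp.dvd_of_dvd_pow (show p ∣ 2 ^ 2 from h'))) h2
        · exact absurd ((Nat.prime_dvd_prime_iff_eq hp (by norm_num)).1 h') h5
      · exact (Nat.prime_dvd_prime_iff_eq hp Nat.prime_three).1 h
    rw [hK, hj] at h60
    have hj1 : j = 1 := by
      by_contra hne
      have h9 : 3 ^ 2 ∣ 60 := (pow_dvd_pow 3 (show 2 ≤ j by omega)).trans ⟨(q + 1) * Nat.card S.A, by rw [← h60]; ring⟩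
      norm_num at h9
    subst hj1
    rw [pow_one] at hj h60
    have hq20 : q + 1 ∣ 20 := ⟨Nat.card S.A, by linarith⟩
    have hq9 : q = 9 := by
      have h20 := Nat.le_of_dvd (by norm_num) hq20
      rw [hj] at hzlt
      rcases (show a = 1 ∨ a = 2 ∨ 3 ≤ a by omega) with rfl | rfl | ha3
      · rw [hqa] at hzlt; norm_num at hzlt
      · rw [hqa]; norm_num
      · have : 3 ^ 3 ≤ q := hqa ▸ Nat.pow_le_pow_right (by norm_num) ha3
        omega
    refine ⟨hq9, hj, ?_⟩
    have h10 : q + 1 = 10 := by omega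
    rw [h10] at h60
    omega
  · exfalso
    haveI := i2
    obtain ⟨Q, hQ⟩ : ∃ Q, Q = Nat.card K0 := ⟨_, rfl⟩
    have hQm : Q ^ m = p ^ (a * 2) := by
      rw [hQ, @Nat.card_eq_fintype_card K0 i2, hm, card_F C, hqa, pow_mul]
    have hm0 : m ≠ 0 := by
      rintro rfl
      rw [pow_zero] at hQm
      have : 2 ^ 2 ≤ p ^ (a * 2) :=
        (Nat.pow_le_pow_left hp.two_le 2).trans (Nat.pow_le_pow_right hp.pos (by omega))
      omega
    obtain ⟨b, -, hb⟩ := (Nat.dvd_prime_pow hp).1 (hQm ▸ dvd_pow_self Q hm0)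
    have hb0 : 0 < b := by
      rcases Nat.eq_zero_or_pos b with rfl | h
      · have : 1 < Q := hQ ▸ Finite.one_lt_card
        simp at hb
        omega
      · exact h
    obtain ⟨g, hg, hgK⟩ : ∃ g, (g = 1 ∨ g = Nat.gcd 2 (Q - 1)) ∧ g * Nat.card D.K = Q * (Q ^ 2 - 1) := by
      rcases he with ⟨⟨e⟩⟩ | ⟨⟨e⟩⟩
      · exact ⟨_, Or.inr rfl, by rw [Nat.card_congr e.toEquiv, hQ, Dickson.gcd_mul_card_psl]⟩
      · exact ⟨1, Or.inl rfl, by rw [Nat.card_congr e.toEquiv, hQ, one_mul, Dickson.card_pgl2]⟩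
    have hQ1 : ¬ p ∣ Q - 1 := by
      intro h
      have h3 : p ∣ Q - (Q - 1) := Nat.dvd_sub (hb ▸ dvd_pow_self p hb0.ne') h
      have hQpos : 1 ≤ Q := hb ▸ Nat.one_le_pow _ _ hp.pos
      rw [Nat.sub_sub_self hQpos] at h3
      exact hp.one_lt.ne' (Nat.dvd_one.1 h3)
    have hQ2 : ¬ p ∣ Q ^ 2 - 1 := by
      intro h
      have h2 : p ∣ Q ^ 2 := dvd_pow (hb ▸ dvd_pow_self p hb0.ne') two_ne_zero
      have hQpos : 1 ≤ Q ^ 2 := Nat.one_le_pow _ _ (hb ▸ pow_pos hp.pos b)
      have h3 : p ∣ Q ^ 2 - (Q ^ 2 - 1) := Nat.dvd_sub h2 h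
      rw [Nat.sub_sub_self hQpos] at h3
      exact hp.one_lt.ne' (Nat.dvd_one.1 h3)
    have hg' : ¬ p ∣ g := by
      rcases hg with rfl | rfl
      · simpa using hp.one_lt.ne'
      · exact fun h => hQ1 (h.trans (Nat.gcd_dvd_right _ _))
    rw [hK, hj, hb, show g * ((q + 1) * (p ^ j * Nat.card S.A)) = p ^ j * (g * ((q + 1) * Nat.card S.A)) by ring] at hgK
    have hx : ¬ p ∣ g * ((q + 1) * Nat.card S.A) := fun h => (hp.dvd_mul.1 h).elim hg' (not_dvd hp ha hqa)
    rw [hb] at hQ2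
    have hjb : j = b := by
      rcases Nat.lt_trichotomy j b with h | h | h
      · exfalso
        have e : p ^ b = p ^ j * p ^ (b - j) := by rw [← pow_add]; congr 1; omega
        nth_rewrite 1 [e] at hgK
        rw [mul_assoc] at hgK
        have := Nat.eq_of_mul_eq_mul_left (pow_pos hp.pos j) hgK
        exact hx (this ▸ (dvd_pow_self p (show b - j ≠ 0 by omega)).mul_right _)
      · exact h
      · exfalso
        have e : p ^ j = p ^ b * p ^ (j - b) := by rw [← pow_add]; congr 1; omega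
        nth_rewrite 1 [e] at hgK
        rw [mul_assoc] at hgK
        have := Nat.eq_of_mul_eq_mul_left (pow_pos hp.pos b) hgK
        exact hQ2 (this ▸ (dvd_pow_self p (show j - b ≠ 0 by omega)).mul_right _)
    subst hjb
    have heq := Nat.eq_of_mul_eq_mul_left (pow_pos hp.pos j) hgK
    have hja : j < a := by
      rw [hj, hqa] at hzlt
      exact (Nat.pow_lt_pow_iff_right hp.one_lt).1 hzlt
    refine not_dvd_sq_sub_one hp.two_le hja hb0 ⟨g * Nat.card S.A, ?_⟩
    rw [← heq, show p ^ a = q from hqa.symm]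
    ring

/-- The possibilities with a trivial root group. -/
theorem cases_trivial (D : Hom C S) {p a : ℕ} (hp : p.Prime) (ha : 0 < a) (hqa : q = p ^ a) [CharP F p]
    (hZ : S.Z0 = ⊥) :
    Nat.card S.A ≤ 2 ∧ (Nat.card S.A = 1 ∨ 2 ∣ (q + 1) * Nat.card S.A) ∨
      (q + 1) * Nat.card S.A = 12 ∨ (q + 1) * Nat.card S.A = 24 ∨ (q + 1) * Nat.card S.A = 60 := by
  haveI := Fact.mk hp
  have hz : Nat.card S.Z0 = 1 := by rw [hZ]; exact AddSubgroup.card_bot
  have hK : Nat.card D.K = (q + 1) * Nat.card S.A := by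
    rw [show (q + 1) * Nat.card S.A = (q + 1) * (Nat.card S.Z0 * Nat.card S.A) by rw [hz, one_mul]]
    exact D.card_K
  have hKT : Nat.card D.KT = Nat.card S.A := by
    have := D.card_KT
    rwa [hz, one_mul] at this
  have hsat : Dickson.Saturated (D.K.comap prH) := fun x hx => by
    rw [Subgroup.mem_comap, Dickson.pr_eq_one.2 hx]
    exact D.K.one_mem
  have e0 : (D.K.comap prH).map prH = D.K := Subgroup.map_comap_eq_self_of_surjective PSL2Inv.pr_surjective D.K
  have h := Dickson.classify_coprime' p hsat (by rw [e0, hK]; exact not_dvd hp ha hqa)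
  rw [e0] at h
  rcases h with ⟨k, -, ⟨hc, -⟩ | ⟨⟨e⟩⟩⟩ | ⟨-, -, ⟨e⟩⟩ | ⟨-, -, ⟨e⟩⟩ | ⟨-, -, ⟨e⟩⟩
  · left
    rw [D.KT_eq_bot_of_cyclic hc, Subgroup.card_bot] at hKT
    exact ⟨by omega, Or.inl hKT.symm⟩
  · left
    have h2 := D.card_KT_le_two e
    rw [hKT] at h2
    refine ⟨h2, Or.inr ?_⟩
    rw [← hK, Nat.card_congr e.toEquiv, DihedralGroup.nat_card]
    exact dvd_mul_right 2 k
  · right; left
    rw [← hK, Nat.card_congr e.toEquiv, nat_card_alternatingGroup, Nat.card_fin]; rfl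
  · right; right; left
    rw [← hK, Nat.card_congr e.toEquiv, Nat.card_perm, Nat.card_fin]; rfl
  · right; right; right
    rw [← hK, Nat.card_congr e.toEquiv, nat_card_alternatingGroup, Nat.card_fin]; rfl

end Hom

namespace Sub

variable {C} (S : Sub C)

theorem stab_facts {p a : ℕ} (hp : p.Prime) (hqa : q = p ^ a) (hlt : S.Z0 < skew C) (hq : 3 ≤ q)
    [CharP F p] (hlarge : q ^ 2 - 1 ≤ Nat.card S.W * Nat.card S.Z0 * Nat.card S.L)
    (hz : Nat.card S.Z0 = 2) (hp2 : p = 2) (hA : Nat.card S.A = 1) :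
    q = 8 ∧ Nat.card S.W = 4 ∧ Nat.card S.L = 9 := by
  subst hp2
  have h2 : (2 : F) = 0 := CharP.cast_eq_zero F 2
  have hw := S.card_W_lt_of_two h2 hlt
  obtain ⟨i, hi⟩ := card_W_pow C hp hqa S.W
  have hia : i < a := by
    rw [hi, hqa] at hw
    exact (Nat.pow_lt_pow_iff_right (by norm_num)).1 hw
  have hw2 : 2 * Nat.card S.W ≤ q := by
    rw [hi, hqa, ← pow_succ']
    exact Nat.pow_le_pow_right (by norm_num) hia
  have hqodd : Odd (q + 1) := by
    rw [hqa]
    exact ((Nat.even_pow.2 ⟨even_two, by omega⟩)).add_one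
  have hLd : Nat.card S.L ∣ q + 1 := by
    have := S.card_L_dvd
    rwa [hA, mul_one] at this
  rw [hz] at hlarge
  obtain ⟨t, ht⟩ := hLd
  have ht1 : t = 1 := by
    have hto : Odd t := (Nat.odd_mul.1 (ht ▸ hqodd)).2
    by_contra hne
    have h3 : 3 ≤ t := by obtain ⟨s, rfl⟩ := hto; omega
    have : 3 * (q ^ 2 - 1) ≤ q * (q + 1) := by
      calc 3 * (q ^ 2 - 1) ≤ t * (Nat.card S.W * 2 * Nat.card S.L) := Nat.mul_le_mul h3 hlarge
        _ = (2 * Nat.card S.W) * (Nat.card S.L * t) := by ring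
        _ ≤ q * (q + 1) := by rw [← ht]; exact Nat.mul_le_mul_right _ hw2
    obtain ⟨q2, hq2⟩ : ∃ q2, q2 = q ^ 2 - 1 := ⟨_, rfl⟩
    have hq1 : 1 ≤ q ^ 2 := Nat.one_le_pow _ _ (by omega)
    have : q ^ 2 = q2 + 1 := by omega
    nlinarith
  subst ht1
  rw [mul_one] at ht
  have hweq : 2 * Nat.card S.W = q := by
    refine le_antisymm hw2 ?_
    by_contra hlt'
    have hle2 : 2 * Nat.card S.W + 2 ≤ q := by
      have hev : 2 ∣ q := hqa ▸ dvd_pow_self 2 (show a ≠ 0 by omega)
      omega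
    rw [← ht] at hlarge
    have h1 : 1 ≤ q ^ 2 := Nat.one_le_pow _ _ (by omega)
    obtain ⟨q2, hq2⟩ : ∃ q2, q2 = q ^ 2 - 1 := ⟨_, rfl⟩
    have : q ^ 2 = q2 + 1 := by omega
    rw [← hq2] at hlarge
    nlinarith
  -- the stabiliser field of the quotient part
  obtain ⟨E, hE⟩ : ∃ E, E = Nat.card (stabField S.W) := ⟨_, rfl⟩
  obtain ⟨k, hk⟩ := exists_pow (stabField S.W) S.W fun e he w hw => he w hw
  have hMd : Nat.card S.M ∣ E - 1 := by
    rw [hE, ← Nat.card_units]
    let f : S.M →* (stabField S.W)ˣ :=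
      { toFun := fun x => Units.mk0 ⟨((x : Fˣ) : F), by
            obtain ⟨l, hl, e⟩ := x.2
            intro w hw
            rw [← e, muHom_val]
            exact S.mu_mul_mem hl hw⟩ fun e => (x : Fˣ).ne_zero (congrArg Subtype.val e)
        map_one' := Units.ext (Subtype.ext rfl)
        map_mul' := fun x y => Units.ext (Subtype.ext rfl) }
    exact Subgroup.card_dvd_of_injective f fun x y e =>
      Subtype.ext (Units.ext (congrArg (fun u : (stabField S.W)ˣ => ((u : stabField S.W) : F)) e))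
  obtain ⟨c, hc, hcM⟩ := S.card_L_M
  rw [← ht] at hcM
  have hE2 : 2 ≤ E := hE ▸ Finite.one_lt_card
  have hMle : Nat.card S.M ≤ E - 1 := Nat.le_of_dvd (by omega) hMd
  have hW2 : 2 ≤ Nat.card S.W := by
    have : 4 ∣ q := by
      rw [hqa]
      exact pow_dvd_pow 2 (show 2 ≤ a by
        by_contra ha2
        interval_cases a <;> simp at hqa <;> omega)
    omega
  have hk1 : k = 1 := by
    rcases (show k = 0 ∨ k = 1 ∨ 2 ≤ k by omega) with rfl | rfl | hk2
    · rw [pow_zero] at hk; omega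
    · rfl
    · exfalso
      have hEE : E * E ≤ Nat.card S.W := by
        rw [hk, ← hE, ← sq]
        exact Nat.pow_le_pow_right (by omega) hk2
      have h3 : q + 4 ≤ 3 * E := by
        rcases hc with rfl | rfl <;> omega
      nlinarith
  subst hk1
  rw [pow_one, ← hE] at hk
  rcases hc with rfl | rfl
  · exfalso; omega
  · obtain ⟨t, ht'⟩ := hMd
    rcases (show t = 0 ∨ t = 1 ∨ 2 ≤ t by omega) with rfl | rfl | ht2
    · omega
    · omega
    · exfalso
      have : Nat.card S.M * 2 ≤ Nat.card S.M * t := Nat.mul_le_mul_left _ ht2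
      omega

/-- The orders left open. -/
theorem exceptional (hq : 3 ≤ q) (h5 : q ≠ 5) (hne : S.H ≠ ⊤) (hi : S.H.index ≤ q ^ 3) :
    (q = 3 ∧ Nat.card S.H = 7 * 32) ∨ (q = 8 ∧ Nat.card S.H = 19 * 1944) ∨
      (q = 9 ∧ ∃ m, Nat.card S.H = 73 * m ∧ m ∣ 48600 ∧ 4 ∣ m) ∨
      (q = 11 ∧ Nat.card S.H = 37 * 11880 ∧ ∃ a ∈ S.W, a ≠ 0) := by
  classical
  obtain ⟨p, a, hp, ha, hqa, hchar⟩ := exists_prime_pow C
  have hlt := S.Z0_lt hq hne
  have hlarge := S.stab_large hi
  obtain ⟨D⟩ := S.exists_hom hq hp hqa hlt hlarge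
  have hcard := S.card_H
  by_cases hZ : S.Z0 = ⊥
  · have hz : Nat.card S.Z0 = 1 := by rw [hZ]; exact AddSubgroup.card_bot
    rw [hz, mul_one] at hlarge hcard
    have hcases := D.cases_trivial hp ha hqa hZ
    have hLd := S.card_L_dvd
    have hA1 : 0 < Nat.card S.A := Nat.card_pos
    have hL1 : Nat.card S.L ≤ (q + 1) * Nat.card S.A := Nat.le_of_dvd (by positivity) hLd
    obtain ⟨tA, htA⟩ := S.card_A_dvd
    by_cases hW : S.W = ⊥
    · rw [hW, AddSubgroup.card_bot, one_mul] at hlarge hcard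
      have hLu : Nat.card S.L ≤ q ^ 2 - 1 := by
        rw [← card_F C, ← Nat.card_units]
        exact Subgroup.card_le_card_group S.L
      have hL : Nat.card S.L = q ^ 2 - 1 := le_antisymm hLu hlarge
      have hsq : q ^ 2 - 1 = (q + 1) * (q - 1) := by simpa using Nat.sq_sub_sq q 1
      have hA : Nat.card S.A = q - 1 := by
        refine le_antisymm (Nat.le_of_dvd (by omega) ⟨tA, htA⟩) (Nat.le_of_mul_le_mul_left (?_ : (q + 1) * (q - 1) ≤ _) (Nat.succ_pos q))
        rw [← hsq, ← hL]; exact hL1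
      by_cases h3 : q = 3
      · subst h3
        refine Or.inl ⟨rfl, ?_⟩
        rw [hcard, hL]
        norm_num
      · exfalso
        rw [hA] at hcases
        rcases hcases with ⟨h, -⟩ | h
        · omega
        · exact arith_full hq h3 h5 h
    · obtain ⟨a0, ha0, ha0'⟩ : ∃ x ∈ S.W, x ≠ (0 : F) := by
        rcases S.W.bot_or_exists_ne_zero with h | h
        · exact absurd h hW
        · exact h
      have hodd : p ≠ 2 := by
        rintro rfl
        have h := S.norm_mem (CharP.cast_eq_zero F 2) ha0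
        rw [hZ, AddSubgroup.mem_bot, mul_eq_zero, map_eq_zero, or_self] at h
        exact ha0' h
      -- the quotient part lies on a line
      let V : AddSubgroup F := (fixed C.σ).toAddSubgroup.map (AddMonoidHom.mulLeft a0)
      have hV : Nat.card V = q := by
        rw [AddSubgroup.card_map_of_injective (mul_right_injective₀ ha0')]
        exact C.hq
      have hWV : S.W ≤ V := by
        intro x hx
        have h := S.comm_mem ha0 hx
        rw [hZ, AddSubgroup.mem_bot, sub_eq_zero] at h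
        refine ⟨x / a0, ?_, mul_div_cancel₀ _ ha0'⟩
        show C.σ (x / a0) = x / a0
        rw [map_div₀, div_eq_div_iff ((map_ne_zero C.σ).2 ha0') ha0']
        linear_combination h
      have hMfix : ∀ x ∈ S.M, C.σ ((x : Fˣ) : F) = x := by
        rintro _ ⟨l, hl, rfl⟩
        obtain ⟨f, hf, e⟩ := hWV (S.mu_mul_mem hl ha0)
        have e' : f = mu C (l : F) := mul_left_cancel₀ ha0' (by
          rw [show a0 * f = mu C (l : F) * a0 from e, mul_comm])
        rw [muHom_val, ← e']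
        exact hf
      obtain ⟨c, hc, hcM⟩ := S.card_L_M
      have hMd : Nat.card S.M ∣ q - 1 := card_units_fixed_le C hMfix
      have hneg : (-1 : Fˣ) ∈ S.M := ⟨-1, S.neg_one_mem hp hqa hodd, Units.ext (by simp [muHom_val, mu])⟩
      have hWd := AddSubgroup.card_dvd_of_le hWV
      rw [hV] at hWd
      have hWle := Nat.le_of_dvd (by omega) hWd
      have hWq : Nat.card S.W = q := by
        by_contra hne'
        have hlt' : S.W < V := lt_of_le_of_ne hWV fun e => hne' (by rw [e, hV])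
        have hE : (Nat.card S.M + 1) * Nat.card S.W ≤ q := by
          refine le_trans ?_ hV.le
          have h0 : Nat.card ↥({x : F | x = 0 ∨ ∃ m ∈ S.M, ((m : Fˣ) : F) = x}) = Nat.card S.M + 1 := by
            rw [← Finite.card_option]
            refine (Nat.card_congr (Equiv.ofBijective
              (fun o : Option S.M => o.elim
                (⟨0, Or.inl rfl⟩ : ↥({x : F | x = 0 ∨ ∃ m ∈ S.M, ((m : Fˣ) : F) = x}))
                fun m => ⟨((m : Fˣ) : F), Or.inr ⟨m, m.2, rfl⟩⟩) ⟨?_, ?_⟩)).symm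
            · rintro (_ | x) (_ | y) e <;> simp only [Option.elim] at e
              · rfl
              · exact absurd (congrArg Subtype.val e).symm (y : Fˣ).ne_zero
              · exact absurd (congrArg Subtype.val e) (x : Fˣ).ne_zero
              · exact congrArg some (Subtype.ext (Units.ext (congrArg Subtype.val e)))
            · rintro ⟨x, rfl | ⟨m, hm, rfl⟩⟩
              · exact ⟨none, rfl⟩
              · exact ⟨some ⟨m, hm⟩, rfl⟩
          rw [← h0]
          refine card_mul_le hlt' ?_ ?_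
          · rintro _ (rfl | ⟨_, ⟨l, hl, rfl⟩, rfl⟩) w hw
            · simp
            · exact S.mu_mul_mem hl hw
          · rintro _ (rfl | ⟨m, hm, rfl⟩) v hv
            · simp
            · obtain ⟨f, hf, rfl⟩ := hv
              refine ⟨(m : F) * f, (fixed C.σ).mul_mem (hMfix m hm) hf, ?_⟩
              show a0 * ((m : F) * f) = (m : F) * (a0 * f)
              ring
        have h1 : Nat.card S.W * Nat.card S.L ≤ 3 * q := by
          rw [← hcM]
          rcases hc with rfl | rfl <;> nlinarith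
        have h9 : 3 ^ 2 ≤ q ^ 2 := Nat.pow_le_pow_left hq 2
        have h4 : q ^ 2 ≤ 3 * q + 1 := by omega
        have hq3 : q = 3 := by
          by_contra hh
          nlinarith [show 4 ≤ q by omega]
        subst hq3
        have hW3 : Nat.card S.W = 1 := by
          rcases (Nat.dvd_prime Nat.prime_three).1 hWd with h | h
          · exact h
          · exact absurd h hne'
        exact hW (AddSubgroup.eq_bot_of_card_eq _ hW3)
      rw [hWq] at hlarge hcard
      have hLq : q ≤ Nat.card S.L := by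
        by_contra hh
        have h1 : q * Nat.card S.L ≤ q * (q - 1) := Nat.mul_le_mul_left _ (by omega)
        have h2 : q * (q - 1) + q = q * q := by
          rw [← Nat.mul_succ, Nat.succ_eq_add_one, Nat.sub_add_cancel (by omega)]
        rw [sq] at hlarge
        omega
      have hMpos : 0 < Nat.card S.M := Nat.card_pos
      have hMle := Nat.le_of_dvd (by omega) hMd
      have hc3 : c = 3 := by rcases hc with rfl | rfl <;> omega
      subst hc3
      -- the squares
      let sqr : S.M →* Fˣ :=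
        { toFun := fun x => (x : Fˣ) ^ 2
          map_one' := by simp
          map_mul' := fun x y => by simp [mul_pow] }
      have hrange : sqr.range = S.A := by
        ext x
        constructor
        · rintro ⟨⟨_, l, hl, rfl⟩, rfl⟩
          refine ⟨l, hl, Units.ext ?_⟩
          show nu C (l : F) = ((muHom C l ^ 2 : Fˣ) : F)
          rw [Units.val_pow_eq_pow_val, sq, muHom_val, ← mu_nu]
          congr 1
          exact hMfix _ ⟨l, hl, rfl⟩
        · rintro ⟨l, hl, rfl⟩
          refine ⟨⟨_, l, hl, rfl⟩, Units.ext ?_⟩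
          show ((muHom C l ^ 2 : Fˣ) : F) = nu C (l : F)
          rw [Units.val_pow_eq_pow_val, sq, muHom_val, ← mu_nu]
          congr 1
          exact (hMfix _ ⟨l, hl, rfl⟩).symm
      have hne1 : (-1 : Fˣ) ≠ 1 := fun e => hodd (by
        have h2 : (2 : F) = 0 := by
          have h := congrArg Units.val e
          rw [Units.val_neg, Units.val_one] at h
          linear_combination -h
        have h3 : p ∣ 2 := (CharP.cast_eq_zero_iff F p 2).1 (by exact_mod_cast h2)
        exact (Nat.prime_dvd_prime_iff_eq hp Nat.prime_two).1 h3)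
      have hker : Nat.card sqr.ker = 2 := by
        rw [Nat.card_eq_two_iff]
        refine ⟨1, ⟨⟨-1, hneg⟩, by show (-1 : Fˣ) ^ 2 = 1; simp⟩, ?_, ?_⟩
        · intro e
          exact hne1 (congrArg (fun z : sqr.ker => ((z : S.M) : Fˣ)) e).symm
        · refine Set.eq_univ_of_forall fun x => ?_
          have hx : ((x : S.M) : Fˣ) ^ 2 = 1 := x.2
          have h1 : (((x : S.M) : Fˣ) : F) * ((x : S.M) : Fˣ) = 1 := by rw [← Units.val_mul, ← sq, hx, Units.val_one]
          rcases mul_self_eq_one_iff.1 h1 with h | h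
          · exact Or.inl (Subtype.ext (Subtype.ext (Units.ext h)))
          · exact Or.inr (Subtype.ext (Subtype.ext (Units.ext h)))
      have hMA : Nat.card S.M = 2 * Nat.card S.A := by
        rw [← hrange, ← hker, ← Subgroup.index_ker, Subgroup.card_mul_index]
      rw [← hcM, hMA] at hLd hLq
      obtain ⟨t6, ht6⟩ := hLd
      have h6 : q + 1 = 6 * t6 := Nat.eq_of_mul_eq_mul_right hA1 (ht6.trans (by ring))
      rw [hMA] at hMd hMle
      obtain ⟨tM, htM⟩ := hMd
      have htM2 : tM = 1 ∨ tM = 2 := by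
        rcases (show tM = 0 ∨ tM = 1 ∨ tM = 2 ∨ 3 ≤ tM by omega) with rfl | h | h | h
        · omega
        · exact Or.inl h
        · exact Or.inr h
        · exfalso
          have : 2 * Nat.card S.A * 3 ≤ 2 * Nat.card S.A * tM := Nat.mul_le_mul_left _ h
          omega
      by_cases h11 : q = 11
      · subst h11
        have hA5 : Nat.card S.A = 5 := by
          rcases htM2 with rfl | rfl
          · omega
          · exfalso
            rcases hcases with ⟨h, -⟩ | h | h | h <;> omega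
        refine Or.inr (Or.inr (Or.inr ⟨rfl, ?_, a0, ha0, ha0'⟩))
        rw [hcard, ← hcM, hMA, hA5]
        norm_num
      · exfalso
        exact arith_line hq h5 h11 h6 htM2 htM (hcases.imp And.left id)
  · rcases D.cases_root hp ha hqa hlt hZ with ⟨hz, hp2, hA⟩ | ⟨hq9, hz, hA⟩
    · obtain ⟨rfl, hw, hl⟩ := S.stab_facts hp hqa hlt hq hlarge hz hp2 hA
      refine Or.inr (Or.inl ⟨rfl, ?_⟩)
      rw [hcard, hw, hz, hl]
      norm_num
    · subst hq9
      refine Or.inr (Or.inr (Or.inl ⟨rfl, 10 * (Nat.card S.W * Nat.card S.Z0 * Nat.card S.L), ?_, ?_, ?_⟩))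
      · rw [hcard]; ring
      · have hw : Nat.card S.W ∣ 81 := by
          have h := AddSubgroup.card_addSubgroup_dvd_card S.W
          rwa [card_F C] at h
        have hl : Nat.card S.L ∣ 20 := by
          have h := S.card_L_dvd
          rwa [hA] at h
        rw [hz]
        calc 10 * (Nat.card S.W * 3 * Nat.card S.L) ∣ 10 * (81 * 3 * 20) :=
              mul_dvd_mul_left _ (mul_dvd_mul (mul_dvd_mul_right hw 3) hl)
          _ = 48600 := by norm_num
      · have hp2 : p ≠ 2 := by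
          rintro rfl
          have h : 2 ∣ 9 := hqa ▸ dvd_pow_self 2 ha.ne'
          omega
        haveI : Nontrivial Fˣ := ⟨1, -1, fun e => hp2 (by
          have h2 : (2 : F) = 0 := by
            have h := congrArg Units.val e
            rw [Units.val_neg, Units.val_one] at h
            linear_combination h
          have h3 : p ∣ 2 := (CharP.cast_eq_zero_iff F p 2).1 (by exact_mod_cast h2)
          exact (Nat.prime_dvd_prime_iff_eq hp Nat.prime_two).1 h3)⟩
        have h2 : orderOf (-1 : Fˣ) = 2 := orderOf_eq_prime (by simp) fun e => hp2 (by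
          have h2 : (2 : F) = 0 := by
            have h := congrArg Units.val e
            rw [Units.val_neg, Units.val_one] at h
            linear_combination -h
          have h3 : p ∣ 2 := (CharP.cast_eq_zero_iff F p 2).1 (by exact_mod_cast h2)
          exact (Nat.prime_dvd_prime_iff_eq hp Nat.prime_two).1 h3)
        have hL2 : 2 ∣ Nat.card S.L := h2 ▸ S.L.orderOf_dvd_natCard (S.neg_one_mem hp hqa hp2)
        exact Dvd.dvd.trans (show 4 ∣ 10 * 2 by norm_num) (mul_dvd_mul_left 10 (hL2.mul_left _))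

end Sub

end Cfsg.Agent.PSU3Index
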