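import Cfsg.Agent.Lib.PSU3Index.Data
import Cfsg.Agent.Lib.Classical.DicksonClassify

/-!
The centraliser of a homology and its image in `PSL₂`.
-/

set_option autoImplicit false
set_option linter.unusedSectionVars false
set_option linter.style.haveILetI false

namespace Cfsg.Agent.PSU3Index

open Matrix Hermitian
open Cfsg.Agent.SU3Root (Uni Frame rootE uu ww dd)

variable {F : Type*} [Field F] [Fintype F] {q : ℕ}

local notation "M3" => Matrix (Fin 3) (Fin 3) F
set_option quotPrecheck false in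
local notation "G" => ↥(Cfsg.SU 3 F q)
local notation "SL2" => Matrix.SpecialLinearGroup (Fin 2) F
local notation "P2" => Matrix.ProjectiveSpecialLinearGroup (Fin 2) F
local notation "prH" => PSL2Inv.pr (F := F)

variable (C : Ctx F q)

/-- The action of the torus on the centre, on units. -/
def nuHom : Fˣ →* Fˣ where
  toFun l := Units.mk0 (nu C l) (mul_ne_zero l.ne_zero ((map_ne_zero C.σ).2 l.ne_zero))
  map_one' := Units.ext (by simp [nu])
  map_mul' a b := Units.ext (by simp [nu]; ring)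

theorem nuHom_val (l : Fˣ) : (nuHom C l : F) = nu C l := rfl

/-- The action of the torus on the quotient of the radical, on units. -/
def muHom : Fˣ →* Fˣ where
  toFun l := Units.mk0 (mu C l) (div_ne_zero (mul_ne_zero ((map_ne_zero C.σ).2 l.ne_zero)
    ((map_ne_zero C.σ).2 l.ne_zero)) l.ne_zero)
  map_one' := Units.ext (by simp [mu])
  map_mul' a b := Units.ext (by simp [mu]; field_simp)

theorem muHom_val (l : Fˣ) : (muHom C l : F) = mu C l := rfl

theorem uEl_congr {a b a' b' : F} {h : b + C.σ b + a * C.σ a = 0} {h' : b' + C.σ b' + a' * C.σ a' = 0}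
    (ea : a = a') (eb : b = b') : uEl C a b h = uEl C a' b' h' := by
  subst ea eb; rfl

theorem uEl_zero (h : (0 : F) + C.σ 0 + 0 * C.σ (0 : F) = 0) : uEl C 0 0 h = 1 := by
  refine mat_inj C ?_
  rw [mat_uEl, mat_one]
  ext i j
  fin_cases i <;> fin_cases j <;> simp [uu]

theorem mu_of_nu_one {l : F} (hl : l ≠ 0) (hn : nu C l = 1) : C.σ l = l⁻¹ :=
  eq_inv_of_mul_eq_one_right hn

/-- A homology lying in the subgroup. -/
structure Hom (S : Sub C) where
  l : Fˣ
  mem : l ∈ S.L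
  nu_one : nu C l = 1
  cube : (l : F) ^ 3 ≠ 1

namespace Hom

variable {C} {S : Sub C} (D : Hom C S)

/-- The homology. -/
def c : G := dEl C D.l D.l.ne_zero

theorem sigma_l : C.σ D.l = (D.l : F)⁻¹ := mu_of_nu_one C D.l.ne_zero D.nu_one

theorem mat_c : mat C D.c = Matrix.diagonal ![(D.l : F), ((D.l : F) ^ 2)⁻¹, (D.l : F)] := by
  rw [c, mat_dEl]
  ext i j
  fin_cases i <;> fin_cases j <;> simp [dd, D.sigma_l, inv_inv]
  field_simp

theorem diag_ne : ((D.l : F) ^ 2)⁻¹ ≠ (D.l : F) := fun h => D.cube (by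
  rw [pow_succ]
  nth_rewrite 2 [← h]
  rw [mul_inv_cancel₀ (pow_ne_zero 2 D.l.ne_zero)])

theorem commute_iff {g : G} : g * D.c = D.c * g ↔
    mat C g 0 1 = 0 ∧ mat C g 1 0 = 0 ∧ mat C g 1 2 = 0 ∧ mat C g 2 1 = 0 := by
  constructor
  · intro h
    have e : mat C (g * D.c) = mat C (D.c * g) := congrArg (mat C) h
    rw [mat_mul, mat_mul, D.mat_c] at e
    have hne := D.diag_ne
    have key : ∀ i j, mat C g i j * ![(D.l : F), ((D.l : F) ^ 2)⁻¹, (D.l : F)] j =
        ![(D.l : F), ((D.l : F) ^ 2)⁻¹, (D.l : F)] i * mat C g i j := fun i j => by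
      have := congrFun (congrFun e i) j
      rwa [Matrix.mul_diagonal, Matrix.diagonal_mul] at this
    refine ⟨?_, ?_, ?_, ?_⟩
    · have := key 0 1; simp at this
      exact (mul_eq_zero.1 (show mat C g 0 1 * (((D.l : F) ^ 2)⁻¹ - D.l) = 0 by linear_combination this)).resolve_right (sub_ne_zero.2 hne)
    · have := key 1 0; simp at this
      exact (mul_eq_zero.1 (show mat C g 1 0 * (((D.l : F) ^ 2)⁻¹ - D.l) = 0 by linear_combination -this)).resolve_right (sub_ne_zero.2 hne)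
    · have := key 1 2; simp at this
      exact (mul_eq_zero.1 (show mat C g 1 2 * (((D.l : F) ^ 2)⁻¹ - D.l) = 0 by linear_combination -this)).resolve_right (sub_ne_zero.2 hne)
    · have := key 2 1; simp at this
      exact (mul_eq_zero.1 (show mat C g 2 1 * (((D.l : F) ^ 2)⁻¹ - D.l) = 0 by linear_combination this)).resolve_right (sub_ne_zero.2 hne)
  · rintro ⟨h01, h10, h12, h21⟩
    refine mat_inj C ?_
    rw [mat_mul, mat_mul, D.mat_c]
    ext i j
    rw [Matrix.mul_diagonal, Matrix.diagonal_mul]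
    fin_cases i <;> fin_cases j <;> simp [h01, h10, h12, h21, mul_comm]

/-- The centraliser of the homology in the subgroup. -/
def SS : Subgroup G where
  carrier := {g | g ∈ S.H ∧ g * D.c = D.c * g}
  one_mem' := ⟨S.H.one_mem, by rw [one_mul, mul_one]⟩
  mul_mem' := fun {g h} hg hh => ⟨S.H.mul_mem hg.1 hh.1, by rw [mul_assoc, hh.2, ← mul_assoc, hg.2, mul_assoc]⟩
  inv_mem' := fun {g} hg => ⟨S.H.inv_mem hg.1, (Commute.inv_left hg.2).eq⟩

theorem c_mem : D.c ∈ S.H := D.mem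

theorem torus_mem {l : Fˣ} (hl : l ∈ S.L) : dEl C l l.ne_zero ∈ D.SS := by
  refine ⟨hl, D.commute_iff.2 ?_⟩
  simp [mat_dEl, dd]

theorem root_mem {b : F} (hb : b ∈ S.Z0) : ∃ h, uEl C 0 b h ∈ D.SS := by
  obtain ⟨h, hm⟩ := hb
  exact ⟨h, hm, D.commute_iff.2 (by simp [mat_uEl, uu])⟩

/-- The stabiliser of the base point. -/
theorem stab_form {g : G} (hg : g ∈ D.SS) (hB : g ∈ borel C) :
    ∃ (b : F) (l : Fˣ) (h : b + C.σ b + 0 * C.σ (0 : F) = 0),
      g = uEl C 0 b h * dEl C l l.ne_zero ∧ b ∈ S.Z0 ∧ l ∈ S.L := by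
  obtain ⟨a, b, l, h, e, hu, hl⟩ := S.split hB hg.1
  have h12 := (D.commute_iff.1 hg.2).2.2.1
  rw [e, mat_mul, mat_uEl, mat_dEl, uu_dd_apply] at h12
  simp at h12
  obtain rfl : a = 0 := h12
  exact ⟨b, l, h, e, ⟨h, hu⟩, hl⟩

/-- The stabiliser of the base point. -/
def T : Subgroup G := D.SS ⊓ borel C

theorem card_T : Nat.card D.T = Nat.card S.Z0 * Nat.card S.L := by
  rw [← Nat.card_prod]
  choose hz hzm using fun b : S.Z0 => D.root_mem b.2
  refine (Nat.card_congr (Equiv.ofBijective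
    (fun x : S.Z0 × S.L => (⟨uEl C 0 (x.1 : F) (hz x.1) * dEl C ((x.2 : Fˣ) : F) (x.2 : Fˣ).ne_zero,
      D.SS.mul_mem (hzm x.1) (D.torus_mem x.2.2), mul_mem (uEl_mem C _) (dEl_mem C _)⟩ : D.T)) ⟨?_, ?_⟩)).symm
  · rintro ⟨b, l⟩ ⟨b', l'⟩ e
    obtain ⟨-, eb, el'⟩ := form_inj C (l : Fˣ).ne_zero (l' : Fˣ).ne_zero _ _ (congrArg Subtype.val e)
    exact Prod.ext (Subtype.ext eb) (Subtype.ext (Units.ext el'))
  · rintro ⟨g, hg, hB⟩
    obtain ⟨b, l, h, e, hb, hl⟩ := D.stab_form hg hB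
    exact ⟨(⟨b, hb⟩, ⟨l, hl⟩), Subtype.ext e.symm⟩

theorem quad (M : M3) (hM : M = mat C D.c) :
    (M - (D.l : F) • 1) * (M - (((D.l : F) ^ 2)⁻¹) • 1) = 0 := by
  subst hM
  rw [D.mat_c]
  ext i j
  fin_cases i <;> fin_cases j <;> simp [Matrix.mul_apply, Fin.sum_univ_three]

/-- A conjugate of the homology in the stabiliser is conjugate there. -/
theorem exists_align {t : G} (ht : t⁻¹ * D.c * t ∈ borel C) :
    ∃ s ∈ D.SS, s⁻¹ * t ∈ borel C := by
  obtain ⟨h, hh, hb⟩ := S.trans t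
  have hc' : h⁻¹ * D.c * h ∈ borel C := by
    have := mul_mem (mul_mem hb ht) (inv_mem hb)
    rwa [show h⁻¹ * t * (t⁻¹ * D.c * t) * (h⁻¹ * t)⁻¹ = h⁻¹ * D.c * h by group] at this
  obtain ⟨a, b, l, hab, e, hu, hl⟩ := S.split hc' (S.H.mul_mem (S.H.mul_mem (S.H.inv_mem hh) D.c_mem) hh)
  -- the quadratic relation
  obtain ⟨M, hM⟩ : ∃ M : M3, M = mat C (h⁻¹ * D.c * h) := ⟨_, rfl⟩
  obtain ⟨Y, hY⟩ : ∃ Y : M3, Y = mat C h⁻¹ := ⟨_, rfl⟩
  obtain ⟨Y', hY'⟩ : ∃ Y : M3, Y = mat C h := ⟨_, rfl⟩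
  have hYY : Y * Y' = 1 := by rw [hY, hY', ← mat_mul, inv_mul_cancel, mat_one]
  have hYY' : Y' * Y = 1 := by rw [hY, hY', ← mat_mul, mul_inv_cancel, mat_one]
  have hMY : M = Y * mat C D.c * Y' := by rw [hM, hY, hY', mat_mul, mat_mul]
  have hq' : (M - (D.l : F) • 1) * (M - (((D.l : F) ^ 2)⁻¹) • 1) = 0 := by
    have hs : ∀ r : F, M - r • (1 : M3) = Y * (mat C D.c - r • 1) * Y' := fun r => by
      rw [Matrix.mul_sub, Matrix.sub_mul, ← hMY, Matrix.mul_smul, Matrix.mul_one, Matrix.smul_mul, hYY]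
    rw [hs, hs, show Y * (mat C D.c - (D.l : F) • 1) * Y' * (Y * (mat C D.c - (((D.l : F) ^ 2)⁻¹) • 1) * Y') =
      Y * ((mat C D.c - (D.l : F) • 1) * (Y' * Y) * (mat C D.c - (((D.l : F) ^ 2)⁻¹) • 1)) * Y' by
        simp only [Matrix.mul_assoc], hYY', Matrix.mul_one, D.quad _ rfl, Matrix.mul_zero, Matrix.zero_mul]
  have htr : M.trace = (D.l : F) + ((D.l : F) ^ 2)⁻¹ + D.l := by
    rw [hMY, Matrix.trace_mul_cycle, hYY', Matrix.one_mul, D.mat_c, Matrix.trace_diagonal, Fin.sum_univ_three]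
    simp
  have hMf : M = uu C.σ a b * dd C.σ l := by rw [hM, e, mat_mul, mat_uEl, mat_dEl]
  rw [hMf, uu_dd_apply] at hq' htr
  have hl0 : (D.l : F) ≠ 0 := D.l.ne_zero
  have hl' : (l : F) ≠ 0 := l.ne_zero
  have hσl : C.σ l ≠ 0 := (map_ne_zero C.σ).2 hl'
  have q00 := congrFun (congrFun hq' 0) 0
  simp [Matrix.mul_apply, Fin.sum_univ_three] at q00
  simp [Matrix.trace_fin_three] at htr
  have hll : (l : F) = D.l := by
    rcases q00 with h1 | h1
    · exact sub_eq_zero.1 h1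
    · exfalso
      have hlm : (l : F) = ((D.l : F) ^ 2)⁻¹ := sub_eq_zero.1 h1
      have hσ' : C.σ l = (D.l : F) ^ 2 := by rw [hlm, map_inv₀, map_pow, D.sigma_l, inv_pow, inv_inv]
      rw [hlm] at htr
      rw [← hlm, hσ', hlm] at htr
      field_simp at htr
      refine D.cube ?_
      have : ((D.l : F) ^ 3 - 1) * ((D.l : F) ^ 3 - 1) = 0 := by
        linear_combination htr
      exact sub_eq_zero.1 (mul_self_eq_zero.1 this)
  obtain rfl : l = D.l := Units.ext hll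
  -- clear the part modulo the centre
  have hmu : 1 - mu C D.l ≠ 0 := by
    intro h0
    have h1 : mu C D.l = 1 := by linear_combination -h0
    rw [mu, D.sigma_l] at h1
    field_simp at h1
    exact D.cube (by linear_combination -h1)
  have ha : a ∈ S.W := ⟨b, hab, hu⟩
  let m : S.W → S.W := fun w => ⟨(1 - mu C D.l) * w, by
    rw [sub_mul, one_mul]; exact S.W.sub_mem w.2 (S.mu_mul_mem D.mem w.2)⟩
  have hm : Function.Injective m := fun x y hxy => Subtype.ext (mul_left_cancel₀ hmu (congrArg Subtype.val hxy))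
  obtain ⟨⟨a', ha'⟩, em⟩ := Finite.injective_iff_surjective.1 hm ⟨a, ha⟩
  have em' : (1 - mu C D.l) * a' = a := congrArg Subtype.val em
  obtain ⟨b', hab', hk⟩ := ha'
  obtain ⟨k, hkd⟩ : ∃ k, k = uEl C a' b' hab' := ⟨_, rfl⟩
  rw [← hkd] at hk
  have hkB : k ∈ borel C := hkd ▸ uEl_mem C hab'
  obtain ⟨x, hx⟩ : ∃ x, x = k⁻¹ * (h⁻¹ * D.c * h) * k := ⟨_, rfl⟩
  have hxB : x ∈ borel C := hx ▸ mul_mem (mul_mem (inv_mem hkB) hc') hkB
  obtain ⟨a₂, b₂, l₂, hl₂, h₂, e₂, -⟩ := borel_form C hxB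
  have hkx : uEl C a' b' hab' * (uEl C a₂ b₂ h₂ * dEl C l₂ hl₂) = uEl C a b hab * dEl C D.l D.l.ne_zero * uEl C a' b' hab' := by
    rw [← e₂, ← e, hx, ← hkd]; group
  have hkm := congrArg (mat C) hkx
  simp only [mat_mul, mat_uEl, mat_dEl] at hkm
  rw [← Matrix.mul_assoc, uu_mul, Matrix.mul_assoc (uu C.σ a b), dd_uu C D.l.ne_zero, ← Matrix.mul_assoc,
    uu_mul, uu_dd_apply, uu_dd_apply] at hkm
  have h00 := congrFun (congrFun hkm 0) 0
  have h12 := congrFun (congrFun hkm 1) 2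
  simp at h00 h12
  subst h00
  have hσ1 : C.σ D.l ≠ 0 := (map_ne_zero C.σ).2 hl0
  simp [hσ1] at h12
  have ha₂ : a₂ = 0 := by linear_combination h12 - em'
  subst ha₂
  -- the remaining central part vanishes
  obtain ⟨X, hX⟩ : ∃ X : M3, X = mat C x := ⟨_, rfl⟩
  have hXY : X = mat C (h * k)⁻¹ * mat C D.c * mat C (h * k) := by
    rw [hX, hx, ← mat_mul, ← mat_mul]; congr 1; group
  have hq2 : (X - (D.l : F) • 1) * (X - (((D.l : F) ^ 2)⁻¹) • 1) = 0 := by
    obtain ⟨Z, hZ⟩ : ∃ Z : M3, Z = mat C (h * k)⁻¹ := ⟨_, rfl⟩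
    obtain ⟨Z', hZ'⟩ : ∃ Z : M3, Z = mat C (h * k) := ⟨_, rfl⟩
    have hZZ : Z * Z' = 1 := by rw [hZ, hZ', ← mat_mul, inv_mul_cancel, mat_one]
    have hZZ' : Z' * Z = 1 := by rw [hZ, hZ', ← mat_mul, mul_inv_cancel, mat_one]
    rw [← hZ, ← hZ'] at hXY
    have hs : ∀ r : F, X - r • (1 : M3) = Z * (mat C D.c - r • 1) * Z' := fun r => by
      rw [Matrix.mul_sub, Matrix.sub_mul, ← hXY, Matrix.mul_smul, Matrix.mul_one, Matrix.smul_mul, hZZ]
    rw [hs, hs, show Z * (mat C D.c - (D.l : F) • 1) * Z' * (Z * (mat C D.c - (((D.l : F) ^ 2)⁻¹) • 1) * Z') =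
      Z * ((mat C D.c - (D.l : F) • 1) * (Z' * Z) * (mat C D.c - (((D.l : F) ^ 2)⁻¹) • 1)) * Z' by
        simp only [Matrix.mul_assoc], hZZ', Matrix.mul_one, D.quad _ rfl, Matrix.mul_zero, Matrix.zero_mul]
  rw [hX, e₂, mat_mul, mat_uEl, mat_dEl, uu_dd_apply] at hq2
  have q02 := congrFun (congrFun hq2 0) 2
  simp [Matrix.mul_apply, Fin.sum_univ_three, D.sigma_l, D.l.ne_zero] at q02
  have hb₂ : b₂ = 0 := by
    rcases q02 with h | h
    · exact h
    · exact absurd (sub_eq_zero.1 h).symm D.diag_ne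
  subst hb₂
  refine ⟨h * k, ⟨S.H.mul_mem hh hk, ?_⟩, ?_⟩
  · have hxc : x = D.c := by rw [e₂, uEl_zero, one_mul, c]
    rw [hx, show k⁻¹ * (h⁻¹ * D.c * h) * k = (h * k)⁻¹ * D.c * (h * k) by group] at hxc
    calc h * k * D.c = h * k * ((h * k)⁻¹ * D.c * (h * k)) := by rw [hxc]
      _ = D.c * (h * k) := by group
  · rw [_root_.mul_inv_rev, mul_assoc]
    exact mul_mem (inv_mem hkB) hb

theorem fixed_skew {b : F} (hb : b + C.σ b + 0 * C.σ (0 : F) = 0) :
    (uEl C 0 b hb * wEl C)⁻¹ * D.c * (uEl C 0 b hb * wEl C) ∈ borel C := by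
  have hcomm : D.c * uEl C 0 b hb = uEl C 0 b hb * D.c :=
    (D.commute_iff.2 (by simp [mat_uEl, uu])).symm
  rw [show (uEl C 0 b hb * wEl C)⁻¹ * D.c * (uEl C 0 b hb * wEl C) =
    (wEl C)⁻¹ * ((uEl C 0 b hb)⁻¹ * (D.c * uEl C 0 b hb)) * wEl C by group, hcomm, inv_mul_cancel_left,
    mem_borel, show (wEl C)⁻¹ = wEl C from inv_eq_of_mul_eq_one_left (wEl_sq C)]
  simp [mat_mul, mat_wEl, c, mat_dEl, dd, ww, Matrix.mul_apply, Fin.sum_univ_three]

/-- The index of the stabiliser of the base point. -/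
theorem relindex_T : Nat.card D.SS = (q + 1) * Nat.card D.T := by
  classical
  rw [← Subgroup.card_mul_index (D.T.subgroupOf D.SS), mul_comm (q + 1),
    Nat.card_congr (Subgroup.subgroupOfEquivOfLe (show D.T ≤ D.SS from inf_le_left)).toEquiv]
  congr 1
  change Nat.card (D.SS ⧸ D.T.subgroupOf D.SS) = q + 1
  conv_rhs => rw [← card_skew C, ← Finite.card_option]
  let f : D.SS ⧸ D.T.subgroupOf D.SS → Pt C :=
    Quotient.map' (fun s : D.SS => (s : G)) fun a b hab => by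
      rw [QuotientGroup.leftRel_apply] at hab ⊢
      exact hab.2
  have hf : Function.Injective f := by
    intro x y
    induction x using Quotient.inductionOn' with | _ a =>
    induction y using Quotient.inductionOn' with | _ b =>
    intro e
    have := QuotientGroup.leftRel_apply.1 (Quotient.exact' e)
    exact Quotient.sound' (QuotientGroup.leftRel_apply.2 (Subgroup.mem_subgroupOf.2
      ⟨D.SS.mul_mem (D.SS.inv_mem a.2) b.2, this⟩))
  let pt : Option (skew C) → Pt C := fun o =>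
    o.elim (base C) fun b => (uEl C 0 (b : F) (zero_of_skew C b.2) * wEl C) • base C
  have hpt : Function.Injective pt := by
    have hne : ∀ b : skew C, (uEl C 0 (b : F) (zero_of_skew C b.2) * wEl C) • base C ≠ base C := fun b h => by
      rw [smul_base_eq_iff, Subgroup.mul_mem_cancel_left _ (uEl_mem C _)] at h
      exact wEl_not_mem C h
    rintro (_ | u) (_ | v) e <;> simp only [pt, Option.elim] at e
    · rfl
    · exact absurd e.symm (hne v)
    · exact absurd e (hne u)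
    · rw [smul_base_eq_smul] at e
      exact congrArg some (Subtype.ext (uEl_w_eq C _ _ e).2)
  rw [← Nat.card_range_of_injective hf, ← Nat.card_range_of_injective hpt]
  refine Nat.card_congr (Equiv.setCongr (Set.ext fun x => ?_))
  constructor
  · rintro ⟨y, rfl⟩
    induction y using Quotient.inductionOn' with | _ s =>
    by_cases hs : (s : G) ∈ borel C
    · exact ⟨none, ((smul_base_eq_iff C).2 hs).symm.trans (smul_base C _)⟩
    · obtain ⟨a, b, h, hb⟩ := bruhat C hs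
      obtain ⟨t, ht⟩ : ∃ t, t = uEl C a b h * wEl C := ⟨_, rfl⟩
      rw [← ht] at hb
      -- the homology fixes this point
      have hfix : t⁻¹ * D.c * t ∈ borel C := by
        have h1 : (s : G)⁻¹ * D.c * s = D.c := by rw [mul_assoc, ← s.2.2, inv_mul_cancel_left]
        have h2 := mul_mem (mul_mem hb (dEl_mem C (l := (D.l : F)) D.l.ne_zero)) (inv_mem hb)
        rwa [show dEl C (D.l : F) D.l.ne_zero = (s : G)⁻¹ * D.c * s from h1.symm,
          show t⁻¹ * (s : G) * ((s : G)⁻¹ * D.c * s) * (t⁻¹ * (s : G))⁻¹ = t⁻¹ * D.c * t by group] at h2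
      obtain ⟨x, hx⟩ : ∃ x, x = t⁻¹ * D.c * t := ⟨_, rfl⟩
      have hswap : D.c * t = t * x := by rw [hx]; group
      rw [← hx] at hfix
      have hy := congrArg (fun g => mat C g 1 0) hswap
      have hz' := congrArg (fun g => mat C g 2 0) hswap
      simp [ht, c, mat_mul, mat_uEl, mat_wEl, mat_dEl, uu, ww, dd, Matrix.mul_apply, Fin.sum_univ_three,
        D.sigma_l, hfix.1, hfix.2] at hy hz'
      have ha : a = 0 := by
        rw [← hz'] at hy
        by_contra h0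
        refine D.cube ?_
        field_simp at hy
        linear_combination -hy
      subst ha
      exact ⟨some ⟨b, skew_of_zero C h⟩, ((smul_base_eq_smul C).2 (ht ▸ hb)).trans (smul_base C _)⟩
  · rintro ⟨o, rfl⟩
    rcases o with _ | b
    · exact ⟨Quotient.mk'' 1, rfl⟩
    · obtain ⟨s, hs, hsb⟩ := D.exists_align (D.fixed_skew (zero_of_skew C b.2))
      exact ⟨Quotient.mk'' ⟨s, hs⟩, (smul_base C s).symm.trans ((smul_base_eq_smul C).2 hsb)⟩

/-! ### The map to `PSL₂` -/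

theorem mid_norm {g : G} (hg : g ∈ D.SS) : mat C g 1 1 * C.σ (mat C g 1 1) = 1 := by
  obtain ⟨h01, h10, h12, h21⟩ := D.commute_iff.1 hg.2
  have h : ((mat C g)ᵀ * (SU3Root.J : M3) * (mat C g).map C.σ) 1 1 = (SU3Root.J : M3) 1 1 := by
    rw [(uni_mat C g).1]
  simpa [SU3Root.J, Matrix.mul_apply, Fin.sum_univ_three, h01, h21] using h

theorem mid_square {g : G} (hg : g ∈ D.SS) : ∃ s : F, s * s = mat C g 1 1 := by
  have h1 := D.mid_norm hg
  by_cases h2 : ringChar F = 2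
  · obtain ⟨s, hs⟩ := FiniteField.isSquare_of_char_two h2 (mat C g 1 1)
    exact ⟨s, hs.symm⟩
  · have hne : mat C g 1 1 ≠ 0 := left_ne_zero_of_mul_eq_one h1
    obtain ⟨s, hs⟩ := (FiniteField.isSquare_iff h2 hne).2 (by
      have hq1 : mat C g 1 1 ^ (q + 1) = 1 := by rw [pow_succ, ← C.hσ, mul_comm, h1]
      have hodd : Odd q := by
        have : Odd (Fintype.card F) := Nat.odd_iff.2 (FiniteField.odd_card_of_char_ne_two h2)
        rw [← Nat.card_eq_fintype_card, card_F C] at this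
        exact Nat.Odd.of_mul_left (by rwa [sq] at this)
      obtain ⟨r, hr⟩ := hodd
      have : Fintype.card F / 2 = (q + 1) * r := by
        rw [← Nat.card_eq_fintype_card, card_F C, hr]
        have : (2 * r + 1) ^ 2 = 2 * ((2 * r + 1 + 1) * r) + 1 := by ring
        omega
      rw [this, pow_mul, hq1, one_pow])
    exact ⟨s, hs.symm⟩

/-- The inner block, scaled. -/
noncomputable def block (g : D.SS) : SL2 :=
  ⟨!![(D.mid_square g.2).choose * mat C g 0 0, (D.mid_square g.2).choose * mat C g 0 2;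
      (D.mid_square g.2).choose * mat C g 2 0, (D.mid_square g.2).choose * mat C g 2 2], by
    have hs := (D.mid_square g.2).choose_spec
    obtain ⟨h01, h10, h12, h21⟩ := D.commute_iff.1 g.2.2
    have hd := (uni_mat C (g : G)).2
    rw [det_fin_three, h01, h10, h12, h21] at hd
    rw [det_fin_two_of]
    linear_combination (mat C g 0 0 * mat C g 2 2 - mat C g 0 2 * mat C g 2 0) * hs + hd⟩

theorem pr_block_mul (g h : D.SS) : prH (D.block (g * h)) = prH (D.block g * D.block h) := by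
  obtain ⟨g01, g10, g12, g21⟩ := D.commute_iff.1 g.2.2
  obtain ⟨h01, h10, h12, h21⟩ := D.commute_iff.1 h.2.2
  have hg := (D.mid_square g.2).choose_spec
  have hh := (D.mid_square h.2).choose_spec
  have hgh := (D.mid_square (g * h).2).choose_spec
  have hm : mat C ((g * h : D.SS) : G) 1 1 = mat C g 1 1 * mat C h 1 1 := by
    simp [mat_mul, Matrix.mul_apply, Fin.sum_univ_three, g10, g12]
  have hcase : (D.mid_square g.2).choose * (D.mid_square h.2).choose = (D.mid_square (g * h).2).choose ∨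
      (D.mid_square g.2).choose * (D.mid_square h.2).choose = -(D.mid_square (g * h).2).choose := by
    refine mul_self_eq_mul_self_iff.1 ?_
    rw [mul_mul_mul_comm, hg, hh, hgh, hm]
  let inner : G → Matrix (Fin 2) (Fin 2) F := fun x => !![mat C x 0 0, mat C x 0 2; mat C x 2 0, mat C x 2 2]
  have hval : ∀ x : D.SS, ((D.block x : SL2) : Matrix (Fin 2) (Fin 2) F) = (D.mid_square x.2).choose • inner x :=
    fun x => by
      ext i j
      fin_cases i <;> fin_cases j <;> simp [block, inner]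
  have hin : inner ((g * h : D.SS) : G) = inner g * inner h := by
    ext i j
    fin_cases i <;> fin_cases j <;>
      simp [inner, mat_mul, Matrix.mul_apply, Fin.sum_univ_two, Fin.sum_univ_three, g01, g21]
  rw [PSL2Inv.pr_eq_iff]
  rcases hcase with e | e
  · left
    refine Subtype.ext ?_
    rw [Matrix.SpecialLinearGroup.coe_mul, hval, hval, hval, hin, Matrix.smul_mul, Matrix.mul_smul, smul_smul, e]
  · right
    refine Subtype.ext ?_
    rw [Matrix.SpecialLinearGroup.coe_mul, Matrix.SpecialLinearGroup.coe_mul, SL2Inv.coe_negOne,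
      Matrix.neg_mul, Matrix.one_mul, hval, hval, hval, hin, Matrix.smul_mul, Matrix.mul_smul, smul_smul, e,
      neg_smul]

/-- The map to `PSL₂`. -/
noncomputable def φ : D.SS →* P2 := MonoidHom.mk' (fun g => prH (D.block g)) fun g h => by
  rw [D.pr_block_mul, map_mul]

theorem mem_ker {g : D.SS} : g ∈ D.φ.ker ↔
    ∃ l : Fˣ, l ∈ S.L ∧ nu C l = 1 ∧ (g : G) = dEl C l l.ne_zero := by
  have hs := (D.mid_square g.2).choose_spec
  have hs0 : (D.mid_square g.2).choose ≠ 0 := fun h0 => by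
    have := D.mid_norm g.2
    rw [← hs, h0, zero_mul, zero_mul] at this
    exact zero_ne_one this
  have hsc : g ∈ D.φ.ker ↔ mat C g 0 2 = 0 ∧ mat C g 2 0 = 0 ∧ mat C g 0 0 = mat C g 2 2 := by
    rw [MonoidHom.mem_ker]
    show prH (D.block g) = 1 ↔ _
    rw [Dickson.pr_eq_one, PStable.isSc_iff]
    simp [block, hs0]
  rw [hsc]
  constructor
  · rintro ⟨h02, h20, h00⟩
    have hB : (g : G) ∈ borel C := ⟨(D.commute_iff.1 g.2.2).2.1, h20⟩
    obtain ⟨b, l, h, e, -, hl⟩ := D.stab_form g.2 hB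
    rw [e, mat_mul, mat_uEl, mat_dEl, uu_dd_apply] at h02 h00
    simp at h02 h00
    subst h02
    refine ⟨l, hl, ?_, by rw [e, uEl_zero, one_mul]⟩
    rw [nu]
    nth_rewrite 1 [h00]
    exact inv_mul_cancel₀ ((map_ne_zero C.σ).2 l.ne_zero)
  · rintro ⟨l, -, hn, e⟩
    rw [e, mat_dEl]
    simp [dd, mu_of_nu_one C l.ne_zero hn]

/-- The kernel of the action on the centre. -/
theorem card_ker : Nat.card D.φ.ker * Nat.card (S.L.map (nuHom C)) = Nat.card S.L := by
  rw [← (nuHom C).domRestrict_range S.L, ← Subgroup.index_ker,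
    ← ((nuHom C).domRestrict S.L).ker.card_mul_index]
  congr 1
  refine Nat.card_congr (Equiv.ofBijective
    (fun l : ((nuHom C).domRestrict S.L).ker => (⟨⟨dEl C ((l : S.L) : Fˣ) _, D.torus_mem (l : S.L).2⟩,
      D.mem_ker.2 ⟨((l : S.L) : Fˣ), (l : S.L).2, congrArg Units.val l.2, rfl⟩⟩ : D.φ.ker)) ⟨?_, ?_⟩).symm
  · intro l l' e
    have e' : dEl C ((l : S.L) : Fˣ) (Units.ne_zero _) = dEl C ((l' : S.L) : Fˣ) (Units.ne_zero _) :=
      congrArg (fun z : D.φ.ker => ((z : D.SS) : G)) e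
    have := congrArg (fun g => mat C g 0 0) e'
    simp only [lam_dEl] at this
    exact Subtype.ext (Subtype.ext (Units.ext this))
  · rintro ⟨g, hg⟩
    obtain ⟨l, hl, hn, e⟩ := D.mem_ker.1 hg
    exact ⟨⟨⟨l, hl⟩, Units.ext hn⟩, Subtype.ext (Subtype.ext e.symm)⟩

theorem ker_le : D.φ.ker ≤ D.T.subgroupOf D.SS := fun g hg => by
  obtain ⟨l, -, -, e⟩ := D.mem_ker.1 hg
  exact ⟨g.2, by show (g : G) ∈ borel C; rw [e]; exact dEl_mem C _⟩

/-- The image. -/
noncomputable def K : Subgroup P2 := D.φ.range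

/-- The image of the stabiliser of the base point. -/
noncomputable def KT : Subgroup P2 := (D.T.subgroupOf D.SS).map D.φ

theorem KT_le : D.KT ≤ D.K := Subgroup.map_le_range _ _

theorem card_K : Nat.card D.K = (q + 1) * (Nat.card S.Z0 * Nat.card (S.L.map (nuHom C))) := by
  have h := D.φ.ker.card_mul_index
  rw [Subgroup.index_ker, D.relindex_T, D.card_T, ← D.card_ker] at h
  refine Nat.eq_of_mul_eq_mul_left (Nat.card_pos (α := D.φ.ker)) (h.trans ?_)
  ring

theorem card_KT : Nat.card D.KT = Nat.card S.Z0 * Nat.card (S.L.map (nuHom C)) := by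
  have hr : (D.φ.domRestrict (D.T.subgroupOf D.SS)).range = D.KT := MonoidHom.domRestrict_range _ _
  have h := (D.φ.domRestrict (D.T.subgroupOf D.SS)).ker.card_mul_index
  rw [Subgroup.index_ker, hr] at h
  have hk : Nat.card (D.φ.domRestrict (D.T.subgroupOf D.SS)).ker = Nat.card D.φ.ker :=
    Nat.card_congr
      { toFun := fun x => ⟨x.1.1, x.2⟩
        invFun := fun x => ⟨⟨x.1, D.ker_le x.2⟩, x.2⟩
        left_inv := fun x => rfl
        right_inv := fun x => rfl }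
  rw [hk, Nat.card_congr (Subgroup.subgroupOfEquivOfLe (show D.T ≤ D.SS from inf_le_left)).toEquiv, D.card_T, ← D.card_ker] at h
  refine Nat.eq_of_mul_eq_mul_left (Nat.card_pos (α := D.φ.ker)) (h.trans ?_)
  ring

theorem mem_T_of_map {g : D.SS} (h : D.φ g ∈ D.KT) : (g : G) ∈ borel C := by
  obtain ⟨t, ht, e⟩ := h
  have hk : g⁻¹ * t ∈ D.φ.ker := by rw [MonoidHom.mem_ker, map_mul, map_inv, e, inv_mul_cancel]
  have h2 := mul_mem ht (Subgroup.inv_mem _ (D.ker_le hk))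
  rw [show t * (g⁻¹ * t)⁻¹ = g by group] at h2
  exact h2.2

/-- No non-trivial normal subgroup fixes the base point. -/
theorem core {N : Subgroup P2} (hN : N ≤ D.KT) (hn : ∀ k ∈ D.K, ∀ n ∈ N, k * n * k⁻¹ ∈ N) : N = ⊥ := by
  obtain ⟨d, hd0, hd⟩ := exists_skew C
  rw [Subgroup.eq_bot_iff_forall]
  intro n hnN
  obtain ⟨x, hx⟩ := D.KT_le (hN hnN)
  subst hx
  -- conjugates fix the base point
  have hfix : ∀ (t : G), t⁻¹ * D.c * t ∈ borel C → t⁻¹ * (x : G) * t ∈ borel C := by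
    intro t ht
    obtain ⟨s, hs, hst⟩ := D.exists_align ht
    have hmem := hn _ ⟨(⟨s, hs⟩ : D.SS)⁻¹, rfl⟩ _ hnN
    rw [← map_inv, inv_inv, ← map_mul, ← map_mul] at hmem
    have hb : s⁻¹ * (x : G) * s ∈ borel C := D.mem_T_of_map (hN hmem)
    have := mul_mem (mul_mem (inv_mem hst) hb) hst
    rwa [show (s⁻¹ * t)⁻¹ * (s⁻¹ * (x : G) * s) * (s⁻¹ * t) = t⁻¹ * (x : G) * t by group] at this
  have hxB : (x : G) ∈ borel C := D.mem_T_of_map (hN hnN)
  obtain ⟨b, l, h, e, -, hl⟩ := D.stab_form x.2 hxB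
  have h0 : (0 : F) + C.σ 0 + 0 * C.σ (0 : F) = 0 := by simp
  have hw := hfix _ (D.fixed_skew h0)
  rw [e, uEl_zero C h0, one_mul, show (wEl C)⁻¹ = wEl C from inv_eq_of_mul_eq_one_left (wEl_sq C)] at hw
  have hw2 := hw.2
  simp [mat_mul, mat_wEl, mat_uEl, mat_dEl, ww, uu, dd, Matrix.mul_apply, Fin.sum_univ_three] at hw2
  subst hw2
  have hxd : (x : G) = dEl C l l.ne_zero := by rw [e, uEl_zero, one_mul]
  have hdz := zero_of_skew C hd
  have hw' := hfix _ (D.fixed_skew hdz)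
  have hkey : dEl C l l.ne_zero * uEl C 0 d hdz = uEl C 0 (nu C l * d)
      (zero_of_skew C (mul_mem_skew C (by rw [nu, map_mul, C.hinv, mul_comm]) hd)) * dEl C l l.ne_zero :=
    mat_inj C (by simp [mat_mul, mat_uEl, mat_dEl, dd_uu C l.ne_zero])
  have hneg : (-d) + C.σ (-d) + 0 * C.σ (0 : F) = 0 := zero_of_skew C ((skew C).neg_mem hd)
  have hinv' : (uEl C 0 d hdz)⁻¹ = uEl C 0 (-d) hneg :=
    inv_eq_of_mul_eq_one_right (mat_inj C (by
      rw [mat_mul, mat_uEl, mat_uEl, uu_mul, mat_one]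
      ext i j
      fin_cases i <;> fin_cases j <;> simp [uu]))
  rw [hxd, show (uEl C 0 d hdz * wEl C)⁻¹ * dEl C l l.ne_zero * (uEl C 0 d hdz * wEl C) =
    (wEl C)⁻¹ * ((uEl C 0 d hdz)⁻¹ * (dEl C l l.ne_zero * uEl C 0 d hdz)) * wEl C by group, hkey, hinv',
    show (wEl C)⁻¹ = wEl C from inv_eq_of_mul_eq_one_left (wEl_sq C)] at hw'
  have hw2 := hw'.2
  simp [mat_mul, mat_wEl, mat_uEl, mat_dEl, ww, uu, dd, Matrix.mul_apply, Fin.sum_univ_three] at hw2
  have hn1 : nu C l = 1 := by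
    have h3 : ((nu C l - 1) * d) * (C.σ l)⁻¹ = 0 := by linear_combination hw2
    rcases mul_eq_zero.1 h3 with h4 | h4
    · exact sub_eq_zero.1 ((mul_eq_zero.1 h4).resolve_right hd0)
    · exact absurd h4 (inv_ne_zero ((map_ne_zero C.σ).2 l.ne_zero))
  rw [← MonoidHom.mem_ker, D.mem_ker]
  exact ⟨l, hl, hn1, hxd⟩

/-- The image of the root subgroup. -/
noncomputable def KP : Subgroup P2 :=
  (({ carrier := {g | ∃ b, ∃ h, b ∈ S.Z0 ∧ (g : G) = uEl C 0 b h}
      one_mem' := ⟨0, by simp, S.Z0.zero_mem, by rw [uEl_zero]; rfl⟩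
      mul_mem' := by
        rintro g g' ⟨b, h, hb, e⟩ ⟨b', h', hb', e'⟩
        refine ⟨b + b', zero_of_skew C ((skew C).add_mem (skew_of_zero C h) (skew_of_zero C h')), S.Z0.add_mem hb hb', ?_⟩
        rw [Subgroup.coe_mul, e, e']
        exact mat_inj C (by rw [mat_mul, mat_uEl, mat_uEl, mat_uEl, uu_mul]; simp)
      inv_mem' := by
        rintro g ⟨b, h, hb, e⟩
        refine ⟨-b, zero_of_skew C ((skew C).neg_mem (skew_of_zero C h)), S.Z0.neg_mem hb, ?_⟩
        rw [Subgroup.coe_inv, e]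
        refine inv_eq_of_mul_eq_one_right (mat_inj C ?_)
        rw [mat_mul, mat_uEl, mat_uEl, uu_mul, mat_one]
        ext i j
        fin_cases i <;> fin_cases j <;> simp [uu] } : Subgroup D.SS)).map D.φ

theorem KP_le : D.KP ≤ D.KT := by
  refine Subgroup.map_mono fun g hg => ?_
  obtain ⟨b, h, -, e⟩ := hg
  exact ⟨g.2, by show (g : G) ∈ borel C; rw [e]; exact uEl_mem C h⟩

theorem card_KP : Nat.card D.KP = Nat.card S.Z0 := by
  choose hz hzm using fun b : S.Z0 => D.root_mem b.2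
  refine (Nat.card_congr (Equiv.ofBijective
    (fun b : S.Z0 => (⟨D.φ ⟨_, hzm b⟩, ⟨_, ⟨b, hz b, b.2, rfl⟩, rfl⟩⟩ : D.KP)) ⟨?_, ?_⟩)).symm
  · intro b b' e
    have hk : (⟨_, hzm b⟩ : D.SS)⁻¹ * ⟨_, hzm b'⟩ ∈ D.φ.ker := by
      have e' : D.φ ⟨_, hzm b⟩ = D.φ ⟨_, hzm b'⟩ := congrArg Subtype.val e
      rw [MonoidHom.mem_ker, map_mul, map_inv, e', inv_mul_cancel]
    obtain ⟨l, -, -, el'⟩ := D.mem_ker.1 hk
    rw [Subgroup.coe_mul, Subgroup.coe_inv, inv_mul_eq_iff_eq_mul] at el'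
    have h02 := congrArg (fun g => mat C g 0 2) el'
    have h00 := congrArg (fun g => mat C g 0 0) el'
    simp [mat_mul, mat_uEl, mat_dEl, uu, dd, Matrix.mul_apply, Fin.sum_univ_three] at h02 h00
    rw [← h00, map_one, inv_one, mul_one] at h02
    exact Subtype.ext h02.symm
  · rintro ⟨_, g, ⟨b, h, hb, e⟩, rfl⟩
    exact ⟨⟨b, hb⟩, Subtype.ext (congrArg D.φ (Subtype.ext e.symm))⟩

/-- The normaliser of the root subgroup fixes the base point. -/
theorem normaliser_KP (hZ : S.Z0 ≠ ⊥) {k : P2} (hk : k ∈ D.K) (hn : ∀ x ∈ D.KP, k * x * k⁻¹ ∈ D.KP) :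
    k ∈ D.KT := by
  obtain ⟨g, rfl⟩ := hk
  obtain ⟨b, hb, hb0⟩ : ∃ b ∈ S.Z0, b ≠ 0 := by
    rcases S.Z0.bot_or_exists_ne_zero with h | h
    · exact absurd h hZ
    · exact h
  obtain ⟨hz, hzm⟩ := D.root_mem hb
  have hmem := D.KP_le (hn _ ⟨⟨_, hzm⟩, ⟨b, hz, hb, rfl⟩, rfl⟩)
  rw [← map_inv, ← map_mul, ← map_mul] at hmem
  have hB : (g : G) * uEl C 0 b hz * (g : G)⁻¹ ∈ borel C := D.mem_T_of_map hmem
  refine Subgroup.mem_map_of_mem _ ⟨g.2, ?_⟩
  by_contra hg
  have hne : (g : G)⁻¹ • base C ≠ base C := by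
    rw [Ne, smul_base_eq_iff, inv_mem_iff]
    exact hg
  have h1 := rad_eq_one C (uEl_mem_rad C hz) hne (by
    rw [← mul_smul, smul_base_eq_smul]
    have := inv_mem hB
    rwa [show ((g : G) * uEl C 0 b hz * (g : G)⁻¹)⁻¹ = (uEl C 0 b hz * (g : G)⁻¹)⁻¹ * (g : G)⁻¹ by group] at this)
  have e2 := congrArg (fun g => mat C g 0 2) h1
  simp [mat_uEl, mat_one, uu] at e2
  exact hb0 e2

end Hom

end Cfsg.Agent.PSU3Index
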