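import Cfsg.Agent.Lib.PSU3Index.Data
import Cfsg.Agent.Lib.Suzuki.Commutant

/-!
Sylow subgroups of prime order acting irreducibly, in the exceptional small cases.
-/

set_option autoImplicit false
set_option linter.unusedSectionVars false
set_option linter.style.haveILetI false

namespace Cfsg.Agent.PSU3Index

open Matrix Hermitian
open Cfsg.Agent.SU3Root (Uni Frame rootE uu ww dd)

variable {F : Type*} [Field F] [Fintype F] {q : ℕ}

local notation "M3" => Matrix (Fin 3) (Fin 3) F
set_option quotPrecheck false in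
local notation "G" => ↥(Cfsg.SU 3 F q)

variable (C : Ctx F q) {r : ℕ}

/-- The matrix in the standard frame. -/
def std (g : G) : M3 := ((g : Matrix.SpecialLinearGroup (Fin 3) F) : M3)

theorem std_mul (g h : G) : std (g * h) = std g * std h := rfl

theorem std_one : std (1 : G) = 1 := rfl

theorem std_inj {g h : G} (e : std g = std h) : g = h := Subtype.ext (Subtype.ext e)

theorem std_pow (g : G) (n : ℕ) : std (g ^ n) = std g ^ n := by
  induction n with
  | zero => rfl
  | succ n ih => rw [pow_succ, pow_succ, std_mul, ih]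

include C in
/-- An element of irreducible prime order is neither centralised nor inverted by an involution. -/
theorem no_involution [Fact r.Prime] (hrq : ¬ r ∣ q)
    (hd : ∀ d, 0 < d → d < 3 → ¬ (q ^ 2) ^ d ≡ 1 [MOD r]) {x t : G} (hx : orderOf x = r) (ht : t * t = 1)
    (h : t * x * t⁻¹ = x ∨ t * x * t⁻¹ = x⁻¹) : t = 1 := by
  have hF : Fintype.card F = q ^ 2 := by rw [← Nat.card_eq_fintype_card, card_F C]
  have hx1 : x ≠ 1 := fun e => by
    rw [e, orderOf_one] at hx
    exact (Fact.out : r.Prime).one_lt.ne hx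
  have hirr : ∀ U : Submodule F (Fin 3 → F), (∀ v ∈ U, std x *ᵥ v ∈ U) → U = ⊥ ∨ U = ⊤ :=
    Suzuki.Commutant.irreducible (p := r) (by rw [← std_pow, ← hx, pow_orderOf_eq_one, std_one])
      (fun e => hx1 (std_inj (e.trans std_one.symm)))
      (by rw [hF]; exact fun hh => hrq ((Fact.out : r.Prime).dvd_of_dvd_pow hh))
      (fun d h0 h3 => by rw [hF]; exact hd d h0 (by simpa using h3))
  rcases h with h | h
  · have hc : std t * std x = std x * std t := by
      rw [← std_mul, ← std_mul]
      exact congrArg std (mul_inv_eq_iff_eq_mul.1 h)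
    let W : Submodule F (Fin 3 → F) := LinearMap.ker (Matrix.mulVecLin (std t) - LinearMap.id)
    have hW : ∀ v, v ∈ W ↔ std t *ᵥ v = v := fun v => by simp [W, LinearMap.mem_ker, sub_eq_zero]
    rcases hirr W (fun v hv => by
      rw [hW] at hv ⊢
      rw [Matrix.mulVec_mulVec, hc, ← Matrix.mulVec_mulVec, hv]) with e | e
    · have hneg : ∀ v, std t *ᵥ v = -v := by
        intro v
        have hmem : std t *ᵥ v + v ∈ W := by
          rw [hW, Matrix.mulVec_add, Matrix.mulVec_mulVec, ← std_mul, ht, std_one, Matrix.one_mulVec, add_comm]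
        rw [e, Submodule.mem_bot] at hmem
        exact eq_neg_of_add_eq_zero_left hmem
      have hT : std t = -1 := Matrix.ext_of_mulVec_single fun i => by
        rw [hneg, Matrix.neg_mulVec, Matrix.one_mulVec]
      have hdet : (std t).det = 1 := (t : Matrix.SpecialLinearGroup (Fin 3) F).2
      rw [hT, Matrix.det_neg, Matrix.det_one, Fintype.card_fin] at hdet
      have hm1 : (-1 : F) = 1 := by linear_combination hdet
      refine std_inj ?_
      rw [hT, std_one]
      ext i j
      simp only [Matrix.neg_apply, Matrix.one_apply]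
      split_ifs
      · exact hm1
      · exact neg_zero
    · refine std_inj (Matrix.ext_of_mulVec_single fun i => ?_)
      rw [std_one, Matrix.one_mulVec]
      exact (hW _).1 (e ▸ Submodule.mem_top)
  · exfalso
    have hA : (std x)ᵀ * (std x).map C.σ = 1 := (HermSU.mem_SU_iff C.hσ _).1 x.2
    have hB : (std x).map C.σ = (std x⁻¹)ᵀ := by
      calc (std x).map C.σ = ((std x * std x⁻¹)ᵀ) * (std x).map C.σ := by
            rw [← std_mul, mul_inv_cancel, std_one, Matrix.transpose_one, Matrix.one_mul]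
        _ = (std x⁻¹)ᵀ * ((std x)ᵀ * (std x).map C.σ) := by rw [Matrix.transpose_mul, Matrix.mul_assoc]
        _ = (std x⁻¹)ᵀ := by rw [hA, Matrix.mul_one]
    have htr : C.σ (std x).trace = (std x).trace := by
      have h1 : C.σ (std x).trace = ((std x).map C.σ).trace := by
        simp [Matrix.trace, map_sum]
      rw [h1, hB, Matrix.trace_transpose, ← h, std_mul, std_mul, Matrix.trace_mul_cycle, ← std_mul (t⁻¹) t,
        inv_mul_cancel, std_one, Matrix.one_mul]
    have hdet : (1 - std x).det = 0 := by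
      have h1 : ((std x).charpoly).eval 1 = 0 := by
        rw [show (std x).charpoly = _ from SU3Root.charpoly_eq C.hσ x]
        simp only [Polynomial.eval_sub, Polynomial.eval_add, Polynomial.eval_mul, Polynomial.eval_pow,
          Polynomial.eval_X, Polynomial.eval_C, Polynomial.eval_one]
        show (1 : F) ^ 3 - (std x).trace * 1 ^ 2 + C.σ (std x).trace * 1 - 1 = 0
        rw [htr]; ring
      rw [Matrix.eval_charpoly, map_one] at h1
      exact h1
    obtain ⟨v, hv0, hv⟩ := Matrix.exists_mulVec_eq_zero_iff.2 hdet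
    let W : Submodule F (Fin 3 → F) := LinearMap.ker (Matrix.mulVecLin (1 - std x))
    have hW : ∀ w, w ∈ W ↔ (1 - std x) *ᵥ w = 0 := fun w => by rw [LinearMap.mem_ker, Matrix.mulVecLin_apply]
    rcases hirr W (fun w hw => by
      rw [hW] at hw ⊢
      rw [Matrix.mulVec_mulVec, show (1 - std x) * std x = std x * (1 - std x) by
        rw [Matrix.mul_sub, Matrix.sub_mul, Matrix.one_mul, Matrix.mul_one],
        ← Matrix.mulVec_mulVec, hw, Matrix.mulVec_zero]) with e | e
    · have : v ∈ W := (hW v).2 hv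
      rw [e, Submodule.mem_bot] at this
      exact hv0 this
    · refine hx1 (std_inj (Matrix.ext_of_mulVec_single fun i => ?_))
      have := (hW (Pi.single i 1)).1 (e ▸ Submodule.mem_top)
      rw [Matrix.sub_mulVec, Matrix.one_mulVec, sub_eq_zero] at this
      rw [← this, std_one, Matrix.one_mulVec]

include C in
/-- The normaliser of such a Sylow subgroup has odd order. -/
theorem exists_count [hr : Fact r.Prime] (hrq : ¬ r ∣ q) (hd : ∀ d, 0 < d → d < 3 → ¬ (q ^ 2) ^ d ≡ 1 [MOD r])
    (H : Subgroup G) {m : ℕ} (hcard : Nat.card H = r * m) (hm : ¬ r ∣ m) :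
    ∃ n N : ℕ, n * N = m ∧ n ≡ 1 [MOD r] ∧ Odd N ∧
      ∃ P : Sylow r H, Nat.card P = r ∧ Nat.card (Subgroup.normalizer ((P : Subgroup H) : Set H)) = r * N := by
  classical
  haveI : Finite H := inferInstance
  let P : Sylow r H := default
  have hP : Nat.card P = r := by
    rw [P.card_eq_multiplicity, hcard]
    have hm0 : m ≠ 0 := fun e => hm (e ▸ dvd_zero r)
    rw [Nat.factorization_mul hr.out.ne_zero hm0, Finsupp.add_apply, hr.out.factorization_self,
      Nat.factorization_eq_zero_of_not_dvd hm, add_zero, pow_one]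
  obtain ⟨N, hN⟩ : r ∣ Nat.card (Subgroup.normalizer ((P : Subgroup H) : Set H)) := by
    have h := Subgroup.card_dvd_of_le (Subgroup.le_normalizer (H := (P : Subgroup H)))
    rwa [show Nat.card (P : Subgroup H) = r from hP] at h
  refine ⟨Nat.card (Sylow r H), N, ?_, card_sylow_modEq_one r H, ?_, P, hP, hN⟩
  · have h := (Subgroup.normalizer ((P : Subgroup H) : Set H)).card_mul_index
    rw [show (Subgroup.normalizer ((P : Subgroup H) : Set H)).index = Nat.card (Sylow r H) from
      P.card_eq_index_normalizer.symm, hN, hcard, mul_assoc] at h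
    rw [mul_comm, Nat.eq_of_mul_eq_mul_left hr.out.pos h]
  · rw [← Nat.not_even_iff_odd, even_iff_two_dvd]
    intro h2
    haveI : Fact (Nat.Prime 2) := ⟨Nat.prime_two⟩
    obtain ⟨t, ht⟩ := exists_prime_orderOf_dvd_card' 2 (show 2 ∣ Nat.card (Subgroup.normalizer ((P : Subgroup H) : Set H)) by
      rw [hN]; exact h2.mul_left r)
    haveI : IsCyclic (P : Subgroup H) := isCyclic_of_prime_card hP
    obtain ⟨x, hx⟩ := IsCyclic.exists_generator (α := (P : Subgroup H))
    have hxo : orderOf x = r := by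
      rw [orderOf_eq_card_of_forall_mem_zpowers hx]; exact hP
    have hxH : orderOf ((x : H) : G) = r := by
      rw [Subgroup.orderOf_coe, Subgroup.orderOf_coe, hxo]
    have ht2 : (t : H) * (t : H) = 1 := by
      have := pow_orderOf_eq_one t
      rw [ht, sq] at this
      exact congrArg Subtype.val this
    have hmem : (t : H) * (x : H) * (t : H)⁻¹ ∈ (P : Subgroup H) :=
      ((Subgroup.mem_normalizer_iff.1 t.2) _).1 x.2
    obtain ⟨j, hj⟩ := hx ⟨_, hmem⟩
    have hj' : (x : H) ^ j = (t : H) * (x : H) * (t : H)⁻¹ := congrArg Subtype.val hj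
    have hjj : (x : H) ^ (j * j) = x := by
      rw [_root_.zpow_mul, hj', conj_zpow, hj', show (t : H) * ((t : H) * (x : H) * (t : H)⁻¹) * (t : H)⁻¹ =
        ((t : H) * (t : H)) * (x : H) * ((t : H) * (t : H))⁻¹ by group, ht2]
      simp
    have hmod : (j * j : ℤ) ≡ 1 [ZMOD (r : ℤ)] := by
      rw [← hxo, ← Subgroup.orderOf_coe x, ← zpow_eq_zpow_iff_modEq, hjj, zpow_one]
    have hdvd : (r : ℤ) ∣ (j - 1) * (j + 1) := by
      have := Int.modEq_iff_dvd.1 hmod.symm
      rwa [show (j - 1) * (j + 1) = j * j - 1 by ring]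
    have hcase : (x : H) ^ j = x ∨ (x : H) ^ j = (x : H)⁻¹ := by
      rcases (Nat.prime_iff_prime_int.1 hr.out).dvd_or_dvd hdvd with e | e
      · left
        nth_rewrite 2 [← zpow_one (x : H)]
        rw [zpow_eq_zpow_iff_modEq, Subgroup.orderOf_coe, hxo]
        exact (Int.modEq_iff_dvd.2 e).symm
      · right
        rw [← _root_.zpow_neg_one, zpow_eq_zpow_iff_modEq, Subgroup.orderOf_coe, hxo]
        exact (Int.modEq_iff_dvd.2 (by simpa using e)).symm
    have hone := no_involution C hrq hd hxH (t := ((t : H) : G)) (congrArg Subtype.val ht2) (by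
      rw [hj'] at hcase
      exact hcase.imp (congrArg Subtype.val) (congrArg Subtype.val))
    rw [show t = 1 from Subtype.ext (Subtype.ext hone), orderOf_one] at ht
    exact absurd ht (by norm_num)

/-- The exceptional case `q = 11`. -/
theorem eleven_false (S : Sub C) (hq : q = 11) (hcard : Nat.card S.H = 37 * 11880)
    (hW : ∃ a ∈ S.W, a ≠ 0) : False := by
  classical
  haveI : Fact (Nat.Prime 37) := ⟨by norm_num⟩
  have hd : ∀ d, 0 < d → d < 3 → ¬ (q ^ 2) ^ d ≡ 1 [MOD 37] := by
    intro d h0 h3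
    subst hq
    interval_cases d <;> decide
  obtain ⟨n, N, hnN, hn, hN, P, hP, hNc⟩ := exists_count C (by subst hq; norm_num) hd S.H hcard (by norm_num)
  have hn3 : n = 3960 ∧ N = 3 := by
    have hdvd : n ∈ Nat.divisors 11880 := Nat.mem_divisors.2 ⟨⟨N, hnN.symm⟩, by norm_num⟩
    have key : ∀ k ∈ Nat.divisors 11880, k % 37 = 1 → 11880 / k % 2 = 1 → k = 3960 := by decide +kernel
    have hn0 : 0 < n := Nat.pos_of_mem_divisors hdvd
    have hN' : N = 11880 / n := by rw [← hnN, Nat.mul_div_cancel_left _ hn0]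
    have := key n hdvd hn (hN' ▸ Nat.odd_iff.1 hN)
    subst this
    exact ⟨rfl, by omega⟩
  rw [hn3.2] at hNc
  -- a central element of order three
  haveI : Fact (Nat.Prime 3) := ⟨by norm_num⟩
  obtain ⟨ζ, hζ⟩ := exists_prime_orderOf_dvd_card' 3 (show 3 ∣ Nat.card Fˣ by
    rw [Nat.card_units, card_F C, hq]; norm_num)
  have hζ3 : (ζ : F) ^ 3 = 1 := by
    rw [← Units.val_pow_eq_pow_val, ← hζ, pow_orderOf_eq_one, Units.val_one]
  have hσζ : C.σ (ζ : F) = (ζ : F) ^ 2 := by
    rw [C.hσ, hq, show (ζ : F) ^ 11 = ((ζ : F) ^ 3) ^ 3 * (ζ : F) ^ 2 by ring, hζ3, one_pow, one_mul]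
  have hz : ∀ g : G, dEl C ζ ζ.ne_zero * g = g * dEl C ζ ζ.ne_zero := by
    intro g
    refine mat_inj C ?_
    have hD : mat C (dEl C ζ ζ.ne_zero) = (ζ : F) • (1 : M3) := by
      rw [mat_dEl]
      ext i j
      fin_cases i <;> fin_cases j <;> simp [dd, hσζ]
      · rw [sq, mul_div_assoc, div_self ζ.ne_zero, mul_one]
      · exact inv_eq_of_mul_eq_one_left (by linear_combination hζ3)
    rw [mat_mul, mat_mul, hD, Matrix.smul_mul, Matrix.mul_smul, Matrix.one_mul, Matrix.mul_one]
  have hzc : dEl C ζ ζ.ne_zero ∈ Subgroup.center G := Subgroup.mem_center_iff.2 fun g => (hz g).symm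
  obtain ⟨z, hzdef⟩ : ∃ z : S.H, z = ⟨_, S.center hzc⟩ := ⟨_, rfl⟩
  have hzo : orderOf z = 3 := by
    refine orderOf_eq_prime ?_ ?_
    · rw [hzdef]
      refine Subtype.ext ?_
      show dEl C (ζ : F) _ ^ 3 = 1
      rw [dEl_pow, dEl_congr C (l' := (1 : F)) (hl' := one_ne_zero) hζ3]
      exact mat_inj C (by rw [mat_dEl, dd_one, mat_one])
    · intro e
      have h1 := congrArg (fun g : S.H => mat C (g : G) 0 0) (hzdef ▸ e : (⟨_, S.center hzc⟩ : S.H) = 1)
      simp [lam_dEl, mat_one] at h1
      have : ζ = 1 := h1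
      rw [this, orderOf_one] at hζ
      exact absurd hζ (by norm_num)
  have hzcomm : ∀ h : S.H, z * h = h * z := fun h => hzdef ▸ Subtype.ext (hz h)
  -- the normaliser is inside the centraliser
  have hcent : Subgroup.normalizer ((P : Subgroup S.H) : Set S.H) ≤ Subgroup.centralizer ((P : Subgroup S.H) : Set S.H) := by
    haveI : IsCyclic (P : Subgroup S.H) := isCyclic_of_prime_card hP
    obtain ⟨X, hX⟩ : ∃ X, X = Subgroup.normalizer ((P : Subgroup S.H) : Set S.H) ⊓
        Subgroup.centralizer ((P : Subgroup S.H) : Set S.H) := ⟨_, rfl⟩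
    have hPX : (P : Subgroup S.H) ≤ X := by
      rw [hX]
      refine le_inf Subgroup.le_normalizer fun a ha b hb => ?_
      obtain ⟨g, hg⟩ := IsCyclic.exists_generator (α := (P : Subgroup S.H))
      obtain ⟨i, hi⟩ := hg ⟨a, ha⟩
      obtain ⟨j, hj⟩ := hg ⟨b, hb⟩
      have hi' : (g : S.H) ^ i = a := congrArg Subtype.val hi
      have hj' : (g : S.H) ^ j = b := congrArg Subtype.val hj
      rw [← hi', ← hj', ← _root_.zpow_add, ← _root_.zpow_add, add_comm]
    have hzX : Subgroup.zpowers z ≤ X := by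
      rw [Subgroup.zpowers_le, hX]
      refine ⟨Subgroup.mem_normalizer_iff.2 fun h => ?_, fun h _ => (hzcomm h).symm⟩
      rw [hzcomm h, mul_inv_cancel_right]
    have h37 : 37 ∣ Nat.card X := hP ▸ Subgroup.card_dvd_of_le hPX
    have h3 : 3 ∣ Nat.card X := by
      have := Subgroup.card_dvd_of_le hzX
      rwa [Nat.card_zpowers, hzo] at this
    have h111 : 37 * 3 ∣ Nat.card X := (by norm_num : Nat.Coprime 37 3).mul_dvd_of_dvd_of_dvd h37 h3
    have hle : X = Subgroup.normalizer ((P : Subgroup S.H) : Set S.H) := by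
      refine Subgroup.eq_of_le_of_card_ge (hX ▸ inf_le_left) ?_
      rw [hNc]
      exact Nat.le_of_dvd Nat.card_pos h111
    rw [← hle, hX]
    exact inf_le_right
  obtain ⟨K, hK⟩ : ∃ K, K = (MonoidHom.transferSylow P hcent).ker := ⟨_, rfl⟩
  have hcompl : Subgroup.IsComplement' K (P : Subgroup S.H) :=
    hK ▸ MonoidHom.ker_transferSylow_isComplement' P hcent
  have hKc : Nat.card K = 11880 := by
    have := hcompl.card_mul
    rw [hP, hcard] at this
    omega
  haveI hKn : K.Normal := hK ▸ MonoidHom.normal_ker _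
  -- elements of order eleven lie in the complement
  obtain ⟨a, ha, ha0⟩ := hW
  obtain ⟨b, hb, hu⟩ := ha
  have huK : (⟨_, hu⟩ : S.H) ∈ K := by
    rw [hK, MonoidHom.mem_ker, ← orderOf_eq_one_iff]
    have h1 : (⟨_, hu⟩ : S.H) ^ (q ^ 3) = 1 := Subtype.ext (by
      show uEl C a b hb ^ (q ^ 3) = 1
      rw [← card_rad C]
      exact congrArg Subtype.val (pow_card_eq_one' (x := (⟨_, uEl_mem_rad C hb⟩ : rad C))))
    have d1 := (orderOf_map_dvd (MonoidHom.transferSylow P hcent) _).trans (orderOf_dvd_of_pow_eq_one h1)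
    have d2 := orderOf_dvd_natCard (MonoidHom.transferSylow P hcent ⟨_, hu⟩)
    rw [hP] at d2
    exact Nat.eq_one_of_dvd_coprimes (by subst hq; norm_num : Nat.Coprime (q ^ 3) 37) d1 d2
  -- so the complement is transitive
  have hall : ∀ g : G, ∃ u ∈ K.map S.H.subtype, u ≠ 1 ∧ g⁻¹ * u * g ∈ rad C := by
    intro g
    obtain ⟨h, hh, hb'⟩ := S.trans g
    obtain ⟨v, hv⟩ : ∃ v : S.H, (v : G) = h := ⟨⟨h, hh⟩, rfl⟩
    have hmem := Subgroup.mem_map_of_mem S.H.subtype (hKn.conj_mem _ huK v)
    rw [map_mul, map_mul, map_inv, Subgroup.subtype_apply, Subgroup.subtype_apply, hv] at hmem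
    refine ⟨h * uEl C a b hb * h⁻¹, hmem, ?_, ?_⟩
    · intro e
      rw [conj_eq_one_iff] at e
      have := congrArg (fun g => mat C g 1 2) e
      simp [mat_uEl, mat_one, uu] at this
      exact ha0 this
    · rw [show g⁻¹ * (h * uEl C a b hb * h⁻¹) * g = (h⁻¹ * g)⁻¹ * uEl C a b hb * (h⁻¹ * g) by group]
      have := rad_conj C (inv_mem hb') (uEl_mem_rad C hb)
      rwa [inv_inv] at this
  have horb : MulAction.orbit (K.map S.H.subtype) (base C) = Set.univ :=
    Set.eq_univ_of_forall (orbit_eq_of_rad C hall)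
  have h := (MulAction.stabilizer (K.map S.H.subtype) (base C)).card_mul_index
  rw [MulAction.index_stabilizer, horb, Set.ncard_univ, card_pt C,
    Subgroup.card_map_of_injective S.H.subtype_injective, hKc] at h
  have h2 : q ^ 3 + 1 = 1332 := by subst hq; norm_num
  rw [h2] at h
  omega

end Cfsg.Agent.PSU3Index
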