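import Cfsg.Agent.Lib.PSU3Index.Cases
import Cfsg.Agent.Lib.PSU3Index.Small

/-!
The minimal index of a proper subgroup of `PSU₃(q)`.
-/

set_option autoImplicit false
set_option linter.unusedSectionVars false
set_option linter.style.haveILetI false

namespace Cfsg.Agent.PSU3Index

variable {F : Type*} [Field F] [Fintype F] {q : ℕ}

set_option quotPrecheck false in
local notation "G" => ↥(Cfsg.SU 3 F q)

theorem divisors_eight : ∀ k ∈ Nat.divisors 1944, k % 19 = 1 → 1944 / k % 2 ≠ 1 := by decide +kernel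

theorem divisors_nine : ∀ k ∈ Nat.divisors 48600, k % 73 = 1 → k % 4 ≠ 0 := by decide +kernel

theorem divisors_three : ∀ k ∈ Nat.divisors 32, k % 7 = 1 → 32 / k % 2 ≠ 1 := by decide +kernel

/-- Every proper subgroup of `SU₃(q)` containing the centre has index above `q³`. -/
theorem su_index (C : Ctx F q) (hq : 3 ≤ q) (h5 : q ≠ 5) {H : Subgroup G}
    (hZ : Subgroup.center G ≤ H) (hne : H ≠ ⊤) : q ^ 3 + 1 ≤ H.index := by
  by_contra hlt
  have hi : H.index ≤ q ^ 3 := by omega
  obtain ⟨S, hS⟩ := exists_sub C hZ hi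
  have hne' : S.H ≠ ⊤ := fun e => hne (Subgroup.index_eq_one.1 (by rw [← hS, e, Subgroup.index_top]))
  rcases S.exceptional hq h5 hne' (hS ▸ hi) with ⟨rfl, hc⟩ | ⟨rfl, hc⟩ | ⟨rfl, m, hc, hm, h4⟩ | ⟨h, hc, hW⟩
  · haveI : Fact (Nat.Prime 7) := ⟨by norm_num⟩
    obtain ⟨n, N, hnN, hn, hN, -⟩ := exists_count C (r := 7) (by norm_num)
      (fun d h0 h3 => by interval_cases d <;> decide) S.H hc (by norm_num)
    have hd : n ∈ Nat.divisors 32 := Nat.mem_divisors.2 ⟨⟨N, hnN.symm⟩, by norm_num⟩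
    refine divisors_three n hd hn ?_
    rw [← hnN, Nat.mul_div_cancel_left _ (Nat.pos_of_mem_divisors hd)]
    exact Nat.odd_iff.1 hN
  · haveI : Fact (Nat.Prime 19) := ⟨by norm_num⟩
    obtain ⟨n, N, hnN, hn, hN, -⟩ := exists_count C (r := 19) (by norm_num)
      (fun d h0 h3 => by interval_cases d <;> decide) S.H hc (by norm_num)
    have hd : n ∈ Nat.divisors 1944 := Nat.mem_divisors.2 ⟨⟨N, hnN.symm⟩, by norm_num⟩
    refine divisors_eight n hd hn ?_
    rw [← hnN, Nat.mul_div_cancel_left _ (Nat.pos_of_mem_divisors hd)]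
    exact Nat.odd_iff.1 hN
  · haveI : Fact (Nat.Prime 73) := ⟨by norm_num⟩
    obtain ⟨n, N, hnN, hn, hN, -⟩ := exists_count C (r := 73) (by norm_num)
      (fun d h0 h3 => by interval_cases d <;> decide) S.H hc
      (fun h => absurd (h.trans hm) (by norm_num))
    subst hnN
    have hd : n ∈ Nat.divisors 48600 := Nat.mem_divisors.2 ⟨(dvd_mul_right n N).trans hm, by norm_num⟩
    have hcop : Nat.Coprime 4 N := by
      rw [show (4 : ℕ) = 2 ^ 2 by norm_num]
      exact (Nat.coprime_two_left.2 hN).pow_left 2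
    exact divisors_nine n hd hn (Nat.dvd_iff_mod_eq_zero.1 (hcop.dvd_of_dvd_mul_right h4))
  · exact eleven_false C S h hc hW

theorem main (hF : Fintype.card F = q ^ 2) (hq : 3 ≤ q) (h5 : q ≠ 5) :
    (∀ H : Subgroup (Cfsg.PSU 3 F q), H ≠ ⊤ → q ^ 3 + 1 ≤ H.index) ∧
      ∃ H : Subgroup (Cfsg.PSU 3 F q), H.index = q ^ 3 + 1 := by
  obtain ⟨C⟩ := exists_ctx hF
  refine ⟨fun H hH => ?_, ⟨(borel C).map (QuotientGroup.mk' _), ?_⟩⟩
  · have hsurj := QuotientGroup.mk'_surjective (Subgroup.center G)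
    rw [← Subgroup.index_comap_of_surjective H hsurj]
    refine su_index C hq h5 (fun z hz => ?_) fun e => hH ?_
    · rw [Subgroup.mem_comap, QuotientGroup.mk'_apply, (QuotientGroup.eq_one_iff z).2 hz]
      exact H.one_mem
    · rw [← Subgroup.map_comap_eq_self_of_surjective hsurj H, e, Subgroup.map_top_of_surjective _ hsurj]
  · rw [Subgroup.index_map_eq _ (QuotientGroup.mk'_surjective _), index_borel C]
    rw [QuotientGroup.ker_mk']
    exact center_le_borel C

end Cfsg.Agent.PSU3Index
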