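import Cfsg.Agent.Lib.LocalEven.SU3Root

/-!
Coordinates in `SU₃(q)` for the antidiagonal form: the stabiliser of an isotropic line.
-/

set_option autoImplicit false
set_option linter.unusedSectionVars false

namespace Cfsg.Agent.PSU3Index

open Matrix Hermitian
open Cfsg.Agent.SU3Root (Uni Frame rootE uu ww dd)

variable {F : Type*} [Field F] [Fintype F] {q : ℕ}

local notation "M3" => Matrix (Fin 3) (Fin 3) F
set_option quotPrecheck false in
local notation "G" => ↥(Cfsg.SU 3 F q)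

/-- The data of a unitary group of degree three. -/
structure Ctx (F : Type*) [Field F] [Fintype F] (q : ℕ) where
  σ : F →+* F
  hσ : ∀ x, σ x = x ^ q
  hne : σ ≠ RingHom.id F
  hinv : ∀ a, σ (σ a) = a
  hq : Nat.card (fixed σ) = q
  fr : Frame σ

theorem exists_ctx (hF : Fintype.card F = q ^ 2) : Nonempty (Ctx F q) := by
  obtain ⟨σ, hσ, hne, hinv, hq, -⟩ := HermStd.exists_sigma hF
  obtain ⟨fr⟩ := SU3Root.exists_frame hne hinv
  exact ⟨⟨σ, hσ, hne, hinv, hq, fr⟩⟩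

variable (C : Ctx F q)

/-- The matrix of an element in the antidiagonal frame. -/
def mat (g : G) : M3 := C.fr.Q * ((g : Matrix.SpecialLinearGroup (Fin 3) F) : M3) * C.fr.P

theorem mat_mul (g h : G) : mat C (g * h) = mat C g * mat C h := by
  simp only [mat, SU3Root.coe_mul_SU]
  rw [show C.fr.Q * ((g : Matrix.SpecialLinearGroup (Fin 3) F) : M3) * C.fr.P *
      (C.fr.Q * ((h : Matrix.SpecialLinearGroup (Fin 3) F) : M3) * C.fr.P) =
    C.fr.Q * ((g : Matrix.SpecialLinearGroup (Fin 3) F) : M3) * (C.fr.P * C.fr.Q) *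
      ((h : Matrix.SpecialLinearGroup (Fin 3) F) : M3) * C.fr.P by simp only [Matrix.mul_assoc],
    C.fr.hPQ, Matrix.mul_one]
  simp only [Matrix.mul_assoc]

theorem mat_one : mat C 1 = 1 := by
  show C.fr.Q * (1 : M3) * C.fr.P = 1
  rw [Matrix.mul_one, C.fr.hQP]

theorem mat_inj {g h : G} (e : mat C g = mat C h) : g = h := by
  have hb : ∀ M : M3, C.fr.P * (C.fr.Q * M * C.fr.P) * C.fr.Q = M := fun M => by
    rw [show C.fr.P * (C.fr.Q * M * C.fr.P) * C.fr.Q = C.fr.P * C.fr.Q * M * (C.fr.P * C.fr.Q) by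
      simp only [Matrix.mul_assoc], C.fr.hPQ, Matrix.one_mul, Matrix.mul_one]
  apply Subtype.ext
  apply Subtype.ext
  exact (hb _).symm.trans ((congrArg (fun M => C.fr.P * M * C.fr.Q) e).trans (hb _))

theorem uni_mat (g : G) : Uni C.σ (mat C g) := by
  refine ⟨?_, ?_⟩
  · have h := (HermSU.mem_SU_iff C.hσ _).1 g.2
    rw [mat, transpose_mul, transpose_mul, Matrix.map_mul, Matrix.map_mul, ← C.fr.hform]
    set A := ((g : Matrix.SpecialLinearGroup (Fin 3) F) : M3)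
    have h1 : C.fr.Qᵀ * C.fr.Pᵀ = 1 := by rw [← transpose_mul, C.fr.hPQ, transpose_one]
    have h2 : C.fr.P.map C.σ * C.fr.Q.map C.σ = 1 := by
      rw [← Matrix.map_mul, C.fr.hPQ, Matrix.map_one _ (map_zero _) (map_one _)]
    rw [show C.fr.Pᵀ * (Aᵀ * C.fr.Qᵀ) * (C.fr.Pᵀ * C.fr.P.map C.σ) *
        (C.fr.Q.map C.σ * A.map C.σ * C.fr.P.map C.σ) =
      C.fr.Pᵀ * Aᵀ * (C.fr.Qᵀ * C.fr.Pᵀ) * (C.fr.P.map C.σ * C.fr.Q.map C.σ) * A.map C.σ * C.fr.P.map C.σ by
        simp only [Matrix.mul_assoc],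
      h1, h2, Matrix.mul_one, Matrix.mul_one, Matrix.mul_assoc C.fr.Pᵀ Aᵀ (A.map C.σ), h, Matrix.mul_one]
  · rw [mat, det_mul, det_mul, (g : Matrix.SpecialLinearGroup (Fin 3) F).2, mul_one, ← det_mul, C.fr.hQP,
      det_one]

/-- The element of a matrix. -/
def el (M : M3) (h : Uni C.σ M) : G := SU3Root.su C.hσ C.fr M h

theorem mat_el (M : M3) (h : Uni C.σ M) : mat C (el C M h) = M := by
  rw [mat, el, SU3Root.su_val, show C.fr.Q * (C.fr.P * M * C.fr.Q) * C.fr.P =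
    C.fr.Q * C.fr.P * M * (C.fr.Q * C.fr.P) by simp only [Matrix.mul_assoc], C.fr.hQP, Matrix.one_mul,
    Matrix.mul_one]

/-! ### Matrices -/

theorem uu_mul (a b a' b' : F) :
    uu C.σ a b * uu C.σ a' b' = uu C.σ (a + a') (b + b' - C.σ a * a') := by
  ext i j
  fin_cases i <;> fin_cases j <;> simp [uu, Matrix.mul_apply, Fin.sum_univ_three]
  all_goals ring

theorem rootE_eq (b : F) : rootE b = uu C.σ 0 b := by
  ext i j
  fin_cases i <;> fin_cases j <;> simp [uu, rootE]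

theorem dd_mul {l k : F} : dd C.σ l * dd C.σ k = dd C.σ (l * k) := by
  ext i j
  fin_cases i <;> fin_cases j <;> simp [dd, Matrix.mul_apply, Fin.sum_univ_three]
  all_goals ring

theorem dd_one : dd C.σ 1 = 1 := by
  ext i j
  fin_cases i <;> fin_cases j <;> simp [dd]

/-- The action of the torus on the quotient of the unipotent radical. -/
def mu (l : F) : F := C.σ l * C.σ l / l

/-- The action of the torus on the centre of the unipotent radical. -/
def nu (l : F) : F := l * C.σ l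

theorem dd_uu {l : F} (hl : l ≠ 0) (a b : F) :
    dd C.σ l * uu C.σ a b = uu C.σ (mu C l * a) (nu C l * b) * dd C.σ l := by
  have hl' : C.σ l ≠ 0 := (map_ne_zero C.σ).2 hl
  ext i j
  fin_cases i <;> fin_cases j <;> simp [uu, dd, mu, nu, Matrix.mul_apply, Fin.sum_univ_three, C.hinv]
  all_goals field_simp

theorem uu_dd_apply (a b l : F) : uu C.σ a b * dd C.σ l =
    !![l, -(C.σ a * (C.σ l / l)), b / C.σ l; 0, C.σ l / l, a / C.σ l; 0, 0, (C.σ l)⁻¹] := by
  ext i j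
  fin_cases i <;> fin_cases j <;> simp [uu, dd, Matrix.mul_apply, Fin.sum_univ_three, div_eq_mul_inv]

/-- The element of the unipotent radical. -/
def uEl (a b : F) (h : b + C.σ b + a * C.σ a = 0) : G := el C _ (SU3Root.uni_uu C.hinv h)

/-- The element of the torus. -/
def dEl (l : F) (hl : l ≠ 0) : G := el C _ (SU3Root.uni_dd C.hinv hl)

theorem mat_uEl {a b : F} (h : b + C.σ b + a * C.σ a = 0) : mat C (uEl C a b h) = uu C.σ a b := mat_el C _ _

theorem mat_dEl {l : F} (hl : l ≠ 0) : mat C (dEl C l hl) = dd C.σ l := mat_el C _ _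

theorem mat_mul_inv (g : G) : mat C g * mat C g⁻¹ = 1 := by rw [← mat_mul, mul_inv_cancel, mat_one]

/-! ### The stabiliser of an isotropic line -/

/-- The stabiliser of the first isotropic line. -/
def borel : Subgroup G where
  carrier := {g | mat C g 1 0 = 0 ∧ mat C g 2 0 = 0}
  one_mem' := by simp [mat_one]
  mul_mem' := fun {g h} hg hh => by
    simp only [Set.mem_ofPred_eq] at hg hh ⊢
    simp [mat_mul, Matrix.mul_apply, Fin.sum_univ_three, hg.1, hg.2, hh.1, hh.2]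
  inv_mem' := fun {g} hg => by
    simp only [Set.mem_ofPred_eq] at hg ⊢
    have hn : mat C g 0 0 ≠ 0 := by
      intro h0
      have h := (uni_mat C g).2
      rw [det_fin_three, hg.1, hg.2, h0] at h
      simp at h
    have h : mat C g⁻¹ * mat C g = 1 := by rw [← mat_mul, inv_mul_cancel, mat_one]
    have h1 := congrFun (congrFun h 1) 0
    have h2 := congrFun (congrFun h 2) 0
    simp [Matrix.mul_apply, Fin.sum_univ_three, hg.1, hg.2] at h1 h2
    exact ⟨h1.resolve_right hn, h2.resolve_right hn⟩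

theorem mem_borel {g : G} : g ∈ borel C ↔ mat C g 1 0 = 0 ∧ mat C g 2 0 = 0 := Iff.rfl

theorem uni_zero {M : M3} (h : Uni C.σ M) (h1 : M 1 0 = 0) (h2 : M 2 0 = 0) :
    M 2 1 = 0 ∧ M 0 0 ≠ 0 ∧ M 1 1 = C.σ (M 0 0) / M 0 0 ∧ M 2 2 = (C.σ (M 0 0))⁻¹ ∧
      M 0 1 = -(C.σ (M 1 2 * C.σ (M 0 0)) * (C.σ (M 0 0) / M 0 0)) ∧
      M 0 2 * C.σ (M 0 0) + C.σ (M 0 2 * C.σ (M 0 0)) +
        M 1 2 * C.σ (M 0 0) * C.σ (M 1 2 * C.σ (M 0 0)) = 0 := by
  obtain ⟨hf, hd⟩ := h
  have e : ∀ i j, (Mᵀ * (SU3Root.J : M3) * M.map C.σ) i j = (SU3Root.J : M3) i j := fun i j => by rw [hf]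
  have h01 := e 0 1
  have h02 := e 0 2
  have h11 := e 1 1
  have h12 := e 1 2
  have h22 := e 2 2
  simp [SU3Root.J, Matrix.mul_apply, Fin.sum_univ_three, h1, h2] at h01 h02 h11 h12 h22
  have hl : M 0 0 ≠ 0 := fun h0 => by rw [h0, zero_mul] at h02; exact zero_ne_one h02
  have h21 : M 2 1 = 0 := h01.resolve_left hl
  have hσl : C.σ (M 0 0) ≠ 0 := (map_ne_zero C.σ).2 hl
  have h22' : C.σ (M 2 2) = (M 0 0)⁻¹ := eq_inv_of_mul_eq_one_right h02
  have e22 : M 2 2 = (C.σ (M 0 0))⁻¹ := by rw [← C.hinv (M 2 2), h22', map_inv₀]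
  have e11 : M 1 1 = C.σ (M 0 0) / M 0 0 := by
    rw [det_fin_three, h1, h2, h21, e22] at hd
    field_simp at hd ⊢
    linear_combination hd
  refine ⟨h21, hl, e11, e22, ?_, ?_⟩
  · rw [h21, e11, e22, map_inv₀, C.hinv] at h12
    have : M 0 1 = -(C.σ (M 0 0) / M 0 0) * C.σ (M 1 2) * M 0 0 := by
      field_simp at h12 ⊢
      linear_combination h12
    rw [this, map_mul, C.hinv]
    ring
  · rw [e22, map_inv₀, C.hinv] at h22
    rw [map_mul, map_mul, C.hinv]
    field_simp at h22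
    linear_combination h22

/-- Normal form of the elements of the stabiliser. -/
theorem borel_form {g : G} (hg : g ∈ borel C) :
    ∃ (a b l : F) (hl : l ≠ 0) (h : b + C.σ b + a * C.σ a = 0),
      g = uEl C a b h * dEl C l hl ∧ l = mat C g 0 0 := by
  obtain ⟨h21, hl, e11, e22, e01, hb⟩ := uni_zero C (uni_mat C g) hg.1 hg.2
  refine ⟨mat C g 1 2 * C.σ (mat C g 0 0), mat C g 0 2 * C.σ (mat C g 0 0), mat C g 0 0, hl, hb,
    mat_inj C ?_, rfl⟩
  rw [mat_mul, mat_uEl, mat_dEl, uu_dd_apply]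
  have hσl : C.σ (mat C g 0 0) ≠ 0 := (map_ne_zero C.σ).2 hl
  ext i j
  fin_cases i <;> fin_cases j <;> simp [h21, e11, e22, e01, hg.1, hg.2, hσl]

theorem uEl_mem {a b : F} (h : b + C.σ b + a * C.σ a = 0) : uEl C a b h ∈ borel C := by
  simp [mem_borel, mat_uEl, uu]

theorem dEl_mem {l : F} (hl : l ≠ 0) : dEl C l hl ∈ borel C := by
  simp [mem_borel, mat_dEl, dd]

theorem form_inj {a b l a' b' l' : F} (hl : l ≠ 0) (hl' : l' ≠ 0) (h : b + C.σ b + a * C.σ a = 0)
    (h' : b' + C.σ b' + a' * C.σ a' = 0) (e : uEl C a b h * dEl C l hl = uEl C a' b' h' * dEl C l' hl') :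
    a = a' ∧ b = b' ∧ l = l' := by
  have e' := congrArg (mat C) e
  rw [mat_mul, mat_mul, mat_uEl, mat_uEl, mat_dEl, mat_dEl, uu_dd_apply, uu_dd_apply] at e'
  have e00 := congrFun (congrFun e' 0) 0
  simp at e00
  subst e00
  have e12 := congrFun (congrFun e' 1) 2
  have e02 := congrFun (congrFun e' 0) 2
  have hσl : C.σ l ≠ 0 := (map_ne_zero C.σ).2 hl
  simp [hσl] at e12 e02
  exact ⟨e12, e02, rfl⟩

/-- The first diagonal entry on the stabiliser. -/
def lam : borel C →* F where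
  toFun g := mat C (g : G) 0 0
  map_one' := by simp [mat_one]
  map_mul' g h := by simp [mat_mul, Matrix.mul_apply, Fin.sum_univ_three, h.2.1, h.2.2]

/-- The unipotent radical. -/
def rad : Subgroup G where
  carrier := {g | g ∈ borel C ∧ mat C g 0 0 = 1}
  one_mem' := ⟨one_mem _, by simp [mat_one]⟩
  mul_mem' := fun {g h} hg hh => ⟨mul_mem hg.1 hh.1, by
    have := map_mul (lam C) ⟨g, hg.1⟩ ⟨h, hh.1⟩
    simpa [lam, hg.2, hh.2] using this⟩
  inv_mem' := fun {g} hg => ⟨inv_mem hg.1, by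
    have := map_mul (lam C) ⟨g, hg.1⟩ ⟨g⁻¹, inv_mem hg.1⟩
    simp only [lam, MonoidHom.coe_mk, OneHom.coe_mk] at this
    calc mat C g⁻¹ 0 0 = mat C g 0 0 * mat C g⁻¹ 0 0 := by simp [hg.2]
      _ = 1 := by rw [← this]; simp [mat_one]⟩

theorem rad_form {g : G} (hg : g ∈ rad C) :
    ∃ (a b : F) (h : b + C.σ b + a * C.σ a = 0), g = uEl C a b h := by
  obtain ⟨a, b, l, hl, h, e, el'⟩ := borel_form C hg.1
  rw [hg.2] at el'
  subst el'
  refine ⟨a, b, h, e.trans ?_⟩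
  rw [show dEl C 1 hl = 1 from mat_inj C (by rw [mat_dEl, mat_one, dd_one]), mul_one]

theorem uEl_mem_rad {a b : F} (h : b + C.σ b + a * C.σ a = 0) : uEl C a b h ∈ rad C :=
  ⟨uEl_mem C h, by simp [mat_uEl, uu]⟩

theorem rad_conj {g u : G} (hg : g ∈ borel C) (hu : u ∈ rad C) : g * u * g⁻¹ ∈ rad C := by
  refine ⟨mul_mem (mul_mem hg hu.1) (inv_mem hg), ?_⟩
  have h1 := map_mul (lam C) (⟨g, hg⟩ * ⟨u, hu.1⟩) ⟨g⁻¹, inv_mem hg⟩
  have h2 := map_mul (lam C) ⟨g, hg⟩ ⟨u, hu.1⟩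
  have h3 := map_mul (lam C) ⟨g, hg⟩ ⟨g⁻¹, inv_mem hg⟩
  simp only [lam, MonoidHom.coe_mk, OneHom.coe_mk, Subgroup.coe_mul] at h1 h2 h3
  rw [h1, h2, hu.2, mul_one, ← h3, mul_inv_cancel, mat_one]
  rfl

/-- The centre acts by scalars, inside every stabiliser. -/
theorem center_le_borel : Subgroup.center G ≤ borel C := by
  intro z hz
  obtain ⟨c, hc⟩ := SU3Root.scalar_of_mem_center C.hne C.hinv C.hσ C.hq hz
  have e : mat C z = Matrix.diagonal fun _ => c := by
    rw [mat, hc, Matrix.mul_assoc, ← Matrix.scalar_apply, (Matrix.scalar_commute c (Commute.all c) _).eq,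
      ← Matrix.mul_assoc, C.fr.hQP, Matrix.one_mul]
  simp [mem_borel, e]

attribute [irreducible] el uEl dEl mat

end Cfsg.Agent.PSU3Index
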